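import Cfsg.Agent.BH.S1.Str
import Cfsg.Agent.BH.Kap.Main

/-!
# BH, box S1 for odd primes (helper58)
-/

set_option autoImplicit false

namespace Cfsg.Agent.BH.S1

open Cfsg Cfsg.Agent Cfsg.Agent.Characters Cfsg.Agent.Blocks.Basic Cfsg.Agent.Blocks.Local
open Cfsg.Agent.TO Cfsg.Agent.TO.Cov

variable {Y : Type} [Group Y] {S T Q : Subgroup Y} {θ η : Y → ℂ} {p : ℕ} {M : Ideal AlgInt}

/-- `h` fixes the extension -/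
def UA (S Q : Subgroup Y) (θ η : Y → ℂ) (h : Y) : Prop := ∀ x ∈ S ⊓ In Q θ, η (h * x * h⁻¹) = η x

/-- `h` acts on `Q` as an element of the inertia group in `S` -/
def UX (S Q : Subgroup Y) (θ : Y → ℂ) (h : Y) : Prop := ∃ t ∈ S ⊓ In Q θ, ∀ u ∈ Q, h * u * h⁻¹ = t * u * t⁻¹

theorem ext_cj' {κ : MulAut T} {h : Y} (hκ : ∀ x, (κ x : Y) = h * x * h⁻¹) (φ : T → ℂ) :
    extendByZero T φ ∘ MulAut.conj h = extendByZero T (φ ∘ κ) := funext fun y => by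
  rw [Function.comp_apply, MulAut.conj_apply]
  by_cases hy : y ∈ T
  · rw [← hκ ⟨y, hy⟩, Core.extendByZero_of_mem _ _ hy, Core.extendByZero_of_mem _ _ (κ ⟨y, hy⟩).2]
    rfl
  · rw [Core.extendByZero_of_notMem _ _ hy, Core.extendByZero_of_notMem _ _ fun h1 => hy ?_]
    obtain ⟨x, hx⟩ := κ.surjective ⟨_, h1⟩
    exact (MulAut.conj h).injective ((hκ x).symm.trans (congrArg Subtype.val hx)) ▸ x.2

theorem ext_T {c : Set (IrrCharacter T)} (hQ : Q ≤ T) (h1 : S ⊓ In Q θ ≤ T)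
    (hc : Can p M c (Q.subgroupOf T) fun x => θ x)
    (hI : ∀ x : T, x ∈ In (Q.subgroupOf T) (fun x => θ x) ↔ (x : Y) ∈ S ⊓ In Q θ)
    (h2 : IsIrrCharacter ↥(S ⊓ In Q θ) fun x => η x) (h3 : ∀ c ∈ Ce Q, c ∈ S → η c = θ c) :
    Ext (Q.subgroupOf T) (fun x => θ x) (In (Q.subgroupOf T) fun x => θ x) fun x => η x :=
  ⟨ce_le_In hc, Core.isIrr_comp ((T.subtype.comp (In (Q.subgroupOf T) fun x => θ x).subtype).codRestrict (S ⊓ In Q θ)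
    fun x => (hI x).1 x.2) (fun y => ⟨⟨⟨y, h1 y.2⟩, (hI _).2 y.2⟩, rfl⟩) h2,
    fun x hx => h3 _ ((mem_Ce_sub hQ).1 hx) ((hI x).1 (ce_le_In hc hx)).1⟩

theorem fe_iff (h1 : S ⊓ In Q θ ≤ T) (hI : ∀ x : T, x ∈ In (Q.subgroupOf T) (fun x => θ x) ↔ (x : Y) ∈ S ⊓ In Q θ)
    {κ : MulAut T} {h : Y} (hκ : ∀ x, (κ x : Y) = h * x * h⁻¹) :
    FE (Q.subgroupOf T) (fun x => θ x) (fun x => η x) κ ↔ UA S Q θ η h :=
  ⟨fun a x hx => hκ ⟨x, h1 hx⟩ ▸ a ⟨x, h1 hx⟩ ((hI _).2 hx), fun a x hx => (congrArg η (hκ x)).trans (a x ((hI x).1 hx))⟩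

variable [Finite Y] [hp : Fact p.Prime]

/-- the two parts of a block -/
theorem split {c : Set (IrrCharacter T)} (hQ : Q ≤ T) (h1 : S ⊓ In Q θ ≤ T) (hcard : Nat.card Q = p)
    (hc : Can p M c (Q.subgroupOf T) fun x => θ x)
    (hI : ∀ x : T, x ∈ In (Q.subgroupOf T) (fun x => θ x) ↔ (x : Y) ∈ S ⊓ In Q θ)
    (hκ : ∀ h ∈ In Q θ, ∃ κ : MulAut T, ∀ x, (κ x : Y) = h * x * h⁻¹)
    (h2 : IsIrrCharacter ↥(S ⊓ In Q θ) fun x => η x) (h3 : ∀ c ∈ Ce Q, c ∈ S → η c = θ c) : ∃ A X : Set (Y → ℂ),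
    A ∪ X = XG T c ∧ Disjoint A X ∧ A.ncard = (Ce Q).relIndex (S ⊓ In Q θ) ∧
      (Ce Q).relIndex (S ⊓ In Q θ) * X.ncard + 1 = p ∧ Inv (In Q θ) A ∧ Inv (In Q θ) X ∧
      (∀ f ∈ A, ∀ h ∈ In Q θ, f ∘ MulAut.conj h = f ↔ UA S Q θ η h) ∧
      ∀ f ∈ X, ∀ h ∈ In Q θ, f ∘ MulAut.conj h = f ↔ UX S Q θ h := by
  obtain ⟨A, X, a1, a2, a3, a4, a5⟩ := str hc
    ((Nat.card_congr (Subgroup.subgroupOfEquivOfLe hQ).toEquiv).trans hcard) (ext_T hQ h1 hc hI h2 h3)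
  rw [show Ce (Q.subgroupOf T) = (Ce Q).subgroupOf T from Subgroup.ext fun _ => mem_Ce_sub hQ,
    show In (Q.subgroupOf T) (fun x => θ x) = (S ⊓ In Q θ).subgroupOf T from Subgroup.ext hI,
    Subgroup.relIndex_subgroupOf h1] at a3 a4
  have hi : Function.Injective (extendByZero T : (T → ℂ) → Y → ℂ) := fun φ ψ e => by
    rw [← ext_coe φ, e, ext_coe]
  have key : ∀ h ∈ In Q θ, ∃ κ ∈ LA (Q.subgroupOf T) fun x : T => θ x, ∀ x, (κ x : Y) = h * x * h⁻¹ := fun h hh => by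
    obtain ⟨κ, b1⟩ := hκ h hh
    exact ⟨κ, ⟨fun x => by rw [Subgroup.mem_subgroupOf, b1]; exact (mem_In.1 hh).1 x,
      fun x => (congrArg θ (b1 x)).trans ((mem_In.1 hh).2 x)⟩, b1⟩
  refine ⟨extendByZero T '' A, extendByZero T '' X, ?_, Set.disjoint_image_of_injective hi a2,
    (Set.ncard_image_of_injective _ hi).trans a3, by rwa [Set.ncard_image_of_injective _ hi], ?_, ?_, ?_, ?_⟩
  · rw [← Set.image_union, a1]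
    exact Set.ext fun f => ⟨by rintro ⟨φ, b1, rfl⟩; exact ext_mem b1, fun b1 => ⟨_, b1.1, ext_res b1.2⟩⟩
  · rintro _ ⟨φ, b1, rfl⟩ h hh
    obtain ⟨κ, b2, b3⟩ := key h hh
    exact ⟨_, ((a5 κ b2).1 φ b1).1, (ext_cj' b3 φ).symm⟩
  · rintro _ ⟨φ, b1, rfl⟩ h hh
    obtain ⟨κ, b2, b3⟩ := key h hh
    exact ⟨_, ((a5 κ b2).2 φ b1).1, (ext_cj' b3 φ).symm⟩
  · rintro _ ⟨φ, b1, rfl⟩ h hh
    obtain ⟨κ, b2, b3⟩ := key h hh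
    rw [ext_cj' b3, hi.eq_iff, ((a5 κ b2).1 φ b1).2, fe_iff h1 hI b3]
  · rintro _ ⟨φ, b1, rfl⟩ h hh
    obtain ⟨κ, b2, b3⟩ := key h hh
    rw [ext_cj' b3, hi.eq_iff, ((a5 κ b2).2 φ b1).2]
    exact ⟨fun ⟨t, b4, b5⟩ => ⟨t, (hI t).1 b4, fun u hu =>
      (b3 ⟨u, hQ hu⟩).symm.trans (congrArg Subtype.val (b5 ⟨u, hQ hu⟩ hu))⟩,
      fun ⟨t, b4, b5⟩ => ⟨⟨t, h1 b4⟩, (hI _).2 b4, fun u hu => Subtype.ext ((b3 u).trans (b5 u hu))⟩⟩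

theorem main [S.Normal] {b : Set (IrrCharacter S)} (R : Root p M S b Q θ) (hT : S ⊔ In Q θ = ⊤)
    (hQ : Nat.card Q = p) : ∃ σ, Eqv (In Q θ) σ (XG S b) (XL M S Q θ) ∧
      ∀ χ ∈ XG S b, HasMatch p M (In ⊤ χ) S (In Q θ) χ (σ χ) := by
  have hL := locB_can R
  have hQL := (Nat.card_congr (Subgroup.subgroupOfEquivOfLe (le_I R)).toEquiv).trans hQ
  have hI : ∀ x : ↥(S ⊓ In Q θ), x ∈ In (Q.subgroupOf (S ⊓ In Q θ)) (fun x => θ x) ↔ (x : Y) ∈ S ⊓ In Q θ :=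
    fun x => iff_of_true (by rw [In_loc]; exact Subgroup.mem_top x) x.2
  obtain ⟨η, h2, h3⟩ : ∃ η : Y → ℂ, IsIrrCharacter ↥(S ⊓ In Q θ) (fun x => η x) ∧ ∀ c ∈ Ce Q, c ∈ S → η c = θ c := by
    obtain ⟨f, hf⟩ := exists_Ext hL hQL
    refine ⟨extendByZero _ f, ?_, fun c a1 a2 => (Core.extendByZero_of_mem _ _
      (Subgroup.mem_inf.2 ⟨a2, Reg.ce_le_In R ⟨a2, a1⟩⟩)).trans
      (hf.ext _ ((mem_Ce_sub (le_I R)).2 a1))⟩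
    rw [ext_coe]
    exact Core.isIrr_comp ((MonoidHom.id _).codRestrict _ fun x => (hI x).2 x.2) (fun y => ⟨y, rfl⟩) hf.irr
  obtain ⟨A, X, a1, a2, a3, a4, a5, a6, a7, a8⟩ := split R.le inf_le_left hQ R.can
    (fun x => (Reg.mem_In_sub R.le R.zero x).symm.trans (and_iff_right x.2).symm)
    (fun h _ => ⟨MulAut.conjNormal h, fun _ => rfl⟩) h2 h3
  obtain ⟨A', X', b1, b2, b3, b4, b5, b6, b7, b8⟩ := split (le_I R) le_rfl hQ hL hI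
    (fun h hh => ⟨cjI S Q θ ⟨h, hh⟩, fun _ => rfl⟩) h2 h3
  have f1 : (A ∪ X).Finite := a1 ▸ finite_XG
  have f2 : (A' ∪ X').Finite := b1 ▸ finite_XG
  obtain ⟨σ₁, c1⟩ := eqv_const _ (f1.subset Set.subset_union_left) (f2.subset Set.subset_union_left) a5 b5 a7 b7
    (a3.trans b3.symm)
  obtain ⟨σ₂, c2⟩ := eqv_const _ (f1.subset Set.subset_union_right) (f2.subset Set.subset_union_right) a6 b6 a8 b8
    (Nat.eq_of_mul_eq_mul_left (Nat.pos_of_ne_zero Subgroup.FiniteIndex.index_ne_zero)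
      (Nat.add_right_cancel (a4.trans b4.symm)))
  obtain ⟨σ, c3⟩ := eqv_union c1 c2 a2 b2 a5 a6
  rw [a1, b1] at c3
  refine ⟨σ, c3, fun χ hχ => ?_⟩
  obtain ⟨ν₀, d1, -⟩ := exists_nu hL hQL (ext_T (le_I R) le_rfl hL hI h2 h3)
  obtain ⟨ν, d2⟩ : ∃ ν : In Q θ →* ℂˣ, ∀ h, h ∈ ν.ker ↔ UA S Q θ η h :=
    ⟨ν₀.comp ((cjI S Q θ).codRestrict _ cjI_mem), fun h => (d1 _).trans (fe_iff le_rfl hI (cjI_coe h))⟩
  have hCn : ((Ce Q).subgroupOf (In Q θ)).Normal := ker_cj (Q := Q) (θ := θ) ▸ inferInstance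
  let K := S ⊔ (ν.ker ⊓ (Ce Q).subgroupOf (In Q θ)).map (In Q θ).subtype
  have hK : ∀ n ∈ S, ∀ c : In Q θ, c ∈ ν.ker → (c : Y) ∈ Ce Q → n * c ∈ K := fun n hn c e1 e2 =>
    Subgroup.mul_mem_sup hn ⟨c, ⟨e1, e2⟩, rfl⟩
  have hd : ∀ t : Y, ∃ n ∈ S, ∃ h ∈ In Q θ, n * h = t := fun t =>
    Subgroup.mem_sup_of_normal_left.1 (hT ▸ Subgroup.mem_top t)
  have hS : S ≤ In ⊤ χ := by
    obtain ⟨ψ, -, e⟩ := hχ.1
    exact Kap.le_In_top (e ▸ ψ.2) hχ.2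
  have hm : ∀ h, h ∈ In ⊤ χ ↔ χ ∘ MulAut.conj h = χ := fun h =>
    ⟨fun e => funext e.2, fun e => ⟨fun _ => Iff.rfl, congrFun e⟩⟩
  obtain ⟨y, e1, e2⟩ : ∃ y ∈ In ⊤ χ, ∀ h ∈ In Q θ, h ∈ In ⊤ χ → ∃ j : ℕ, h * (y ^ j)⁻¹ ∈ K := by
    rcases (a1 ▸ hχ : χ ∈ A ∪ X) with e | e
    · have := aut_cyc hQ
      obtain ⟨y, hy⟩ := gen (((resQ Q θ).comp (cjL Q θ)).comp ν.ker.subtype) inferInstance
      refine ⟨y, (hm _).2 ((a7 χ e _ y.1.2).2 ((d2 _).1 y.2)), fun h hh e1 => ?_⟩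
      have e2 := (d2 ⟨h, hh⟩).2 ((a7 χ e h hh).1 ((hm h).1 e1))
      obtain ⟨j, hj⟩ := hy ⟨⟨h, hh⟩, e2⟩
      rw [← MonoidHom.comap_ker, ker_cj] at hj
      exact ⟨j, Subgroup.mem_sup_right ⟨_, ⟨((⟨⟨h, hh⟩, e2⟩ : ν.ker) * (y ^ j)⁻¹).2, hj⟩, rfl⟩⟩
    · have : Finite (ν.comp ((Ce Q).subgroupOf (In Q θ)).subtype).range :=
        Finite.of_surjective _ (MonoidHom.rangeRestrict_surjective _)
      obtain ⟨y, hy⟩ := gen (ν.comp ((Ce Q).subgroupOf (In Q θ)).subtype) inferInstance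
      refine ⟨y, (hm _).2 ((a8 χ e _ y.1.2).2 ⟨1, one_mem _, fun u hu => ?_⟩), fun h hh e1 => ?_⟩
      · rw [one_mul, inv_one, mul_one]
        exact mul_inv_eq_iff_eq_mul.2 (mem_Ce.1 y.2 u hu).symm
      obtain ⟨t, e2, e3⟩ := (a8 χ e h hh).1 ((hm h).1 e1)
      have e4 : t⁻¹ * h ∈ Ce Q := mem_Ce.2 fun u hu => by
        rw [mul_assoc, mul_inv_eq_iff_eq_mul.1 (e3 u hu)]
        group
      obtain ⟨j, hj⟩ := hy ⟨⟨t⁻¹ * h, mul_mem (inv_mem e2.2) hh⟩, e4⟩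
      refine ⟨j, ?_⟩
      rw [← mul_inv_cancel_left t h, mul_assoc]
      exact hK t e2.1 _ hj (mul_mem e4 (inv_mem (pow_mem y.2 j)))
  refine Kap.hasMatch R hT h2 h3 hχ.1 hχ.2 (c3.1.mapsTo hχ).1 (c3.1.mapsTo hχ).2
    (fun h e3 e4 x _ => congrFun ((c3.2 χ hχ h e4).symm.trans (congrArg σ ((hm h).1 e3))) x) K (fun t _ x hx => ?_)
    (fun x hx => ?_) y e1 fun t ht => ?_
  · obtain ⟨n, hn, h, hh, rfl⟩ := hd t
    obtain ⟨m, e3, _, ⟨c, e4, rfl⟩, rfl⟩ := Subgroup.mem_sup_of_normal_left.1 hx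
    rw [show n * h * (m * (In Q θ).subtype c) * (n * h)⁻¹ = n * (h * m * h⁻¹ * (h * c * h⁻¹)) * n⁻¹ by
      rw [Subgroup.subtype_apply]; group]
    exact mul_mem (mul_mem (Subgroup.mem_sup_left hn) (hK _ ((conj_mem_iff S h m).2 e3) (⟨h, hh⟩ * c * ⟨h, hh⟩⁻¹)
      (ν.normal_ker.conj_mem c e4.1 _) (hCn.conj_mem c e4.2 _))) (Subgroup.mem_sup_left (inv_mem hn))
  · obtain ⟨m, e3, _, ⟨c, e4, rfl⟩, rfl⟩ := Subgroup.mem_sup_of_normal_left.1 hx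
    exact ⟨m, e3, c, c.2, e4.2, rfl, (d2 c).1 e4.1⟩
  · obtain ⟨n, hn, h, hh, rfl⟩ := hd t
    obtain ⟨j, hj⟩ := e2 h hh ((Subgroup.mul_mem_cancel_left _ (hS hn)).1 ht)
    exact ⟨0, j, by rw [pow_zero, pow_one, mul_assoc]; exact mul_mem (Subgroup.mem_sup_left hn) hj⟩

end Cfsg.Agent.BH.S1

namespace Cfsg.Agent.BH

open Cfsg

/-- **[S1]** for odd primes -/
theorem boxS1_odd {p : ℕ} [Fact p.Prime] {M : Ideal AlgInt} (hp : p ≠ 2) : BoxS1 p M := by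
  intro _ Y _ _ S _ b Q θ R hT hs _ _
  obtain ⟨σ, h1, h2⟩ := S1.main R hT (hs.resolve_right fun h => hp h.1).2
  exact S1.frame R hT h1 h2

end Cfsg.Agent.BH
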