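import Cfsg.Agent.BH.S1.Frame
import Cfsg.Agent.H639.CycPI

/-!
# BH, box S1: blocks with a defect group of order `p` (helper58)

`W p D θ f ν` is the inner product of the restriction of `f` to `C(D)` with `θ_ν - θ`.
-/

set_option autoImplicit false

namespace Cfsg.Agent.BH.S1

open Cfsg Cfsg.Agent Cfsg.Agent.Characters Cfsg.Agent.Blocks.Basic Cfsg.Agent.Blocks.Local
open Cfsg.Agent.TO Cfsg.Agent.TO.Cov Cfsg.Agent.Blocks.Blau
open Cfsg.Agent.H666.Clif (tl tl_apply Ov ov_iff exists_tl)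
open scoped ComplexConjugate

section Defs

variable {G : Type} [Group G]

/-- the column at `v` -/
noncomputable def dd (p : ℕ) (θ f : G → ℂ) (v : G) : ℂ := ∑ᶠ x, regPart p (fun x => f (v * x)) x * conj (θ x)

/-- the sum over `D` -/
noncomputable def UU (p : ℕ) (D : Subgroup G) (θ f ν : G → ℂ) : ℂ := ∑ᶠ v : D, (ν v - 1) * conj (dd p θ f v)

/-- the integers `w` -/
noncomputable def W (p : ℕ) (D : Subgroup G) (θ f ν : G → ℂ) : ℂ := (Nat.card (Ce D) : ℂ)⁻¹ * UU p D θ f ν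

/-- a nontrivial linear character of `D` -/
def NL (D : Subgroup G) (ν : G → ℂ) : Prop :=
  (∀ u ∈ D, ∀ v ∈ D, ν (u * v) = ν u * ν v) ∧ ν 1 = 1 ∧ ∃ u ∈ D, ν u ≠ 1

/-- conjugate under the inertia group -/
def Rel (D : Subgroup G) (θ ν ν' : G → ℂ) : Prop := ∃ t ∈ In D θ, ∀ u ∈ D, ν' u = ν (t * u * t⁻¹)

/-- a row without zeros -/
def Con (p : ℕ) (D : Subgroup G) (θ f : G → ℂ) : Prop := ∀ ν, NL D ν → W p D θ f ν ≠ 0

variable {p : ℕ} {D : Subgroup G} {θ f ν : G → ℂ}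

theorem fs_hom {H : Type} [Group H] {j : H →* G} (hj : Function.Injective j) {F : G → ℂ}
    (h0 : ∀ g, g ∉ j.range → F g = 0) : ∑ᶠ x, F x = ∑ᶠ y, F (j y) := by
  rw [← finsum_mem_range hj, finsum_mem_def]
  refine finsum_congr fun x => ?_
  by_cases hx : x ∈ Set.range j
  · rw [Set.indicator_of_mem hx]
  · rw [Set.indicator_of_notMem hx, h0 x hx]

theorem dd_eq {H : Type} [Group H] {j : H →* G} (hj : Function.Injective j) (h0 : ∀ g, g ∉ j.range → θ g = 0)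
    (v : G) : dd p θ f v = ∑ᶠ y, regPart p (fun y => f (v * j y)) y * conj (θ (j y)) := by
  rw [dd, fs_hom hj fun g hg => by rw [h0 g hg, map_zero, mul_zero]]
  refine finsum_congr fun y => ?_
  by_cases hy : p ∣ orderOf y
  · rw [regPart_of_dvd hy, regPart_of_dvd (by rwa [orderOf_injective j hj])]
  · rw [regPart_of_not_dvd hy, regPart_of_not_dvd (by rwa [orderOf_injective j hj])]

theorem dd_hom {H : Type} [Group H] {j : H →* G} (hj : Function.Injective j) (h0 : ∀ g, g ∉ j.range → θ g = 0)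
    (v : H) : dd p (fun y => θ (j y)) (fun y => f (j y)) v = dd p θ f (j v) := by
  rw [dd_eq hj h0, dd]
  simp only [map_mul]

theorem UU_hom {H : Type} [Group H] {j : H →* G} (hj : Function.Injective j) (h0 : ∀ g, g ∉ j.range → θ g = 0)
    {E : Subgroup H} (h1 : ∀ y, j y ∈ D ↔ y ∈ E) (h2 : D ≤ j.range) :
    UU p E (fun y => θ (j y)) (fun y => f (j y)) (fun y => ν (j y)) = UU p D θ f ν := by
  refine finsum_eq_of_bijective (fun y : E => (⟨j y, (h1 y).2 y.2⟩ : D)) ⟨fun y z e => ?_, fun x => ?_⟩ fun y => ?_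
  · exact Subtype.ext (hj (congrArg Subtype.val e))
  · obtain ⟨y, hy⟩ := h2 x.2
    exact ⟨⟨y, (h1 y).1 (hy ▸ x.2)⟩, Subtype.ext hy⟩
  · rw [dd_hom hj h0]

/-- isomorphisms -/
theorem W_iso {H : Type} [Group H] (e : H ≃* G) {E : Subgroup H} (h1 : ∀ y, e y ∈ D ↔ y ∈ E) :
    W p E (θ ∘ e) (f ∘ e) (ν ∘ e) = W p D θ f ν := by
  have h2 : ∀ g, g ∈ e.toMonoidHom.range := fun g => ⟨e.symm g, e.apply_symm_apply g⟩
  have h3 : E.map e.toMonoidHom = D := by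
    ext x
    exact ⟨by rintro ⟨y, hy, rfl⟩; exact (h1 y).2 hy, fun hx =>
      ⟨e.symm x, (h1 _).1 (by rwa [e.apply_symm_apply]), e.apply_symm_apply x⟩⟩
  have h4 : Nat.card (Ce E) = Nat.card (Ce D) := by
    rw [← h3, Ce, Ce, H649.centralizer_map, Subgroup.card_map_of_injective e.injective]
  rw [W, W, h4]
  exact congrArg _ (UU_hom (j := e.toMonoidHom) e.injective (fun g hg => absurd (h2 g) hg) h1 fun g _ => h2 g)

theorem W_congr {ν' : G → ℂ} (h : ∀ u ∈ D, ν u = ν' u) : W p D θ f ν = W p D θ f ν' := by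
  rw [W, W, UU, UU]
  exact congrArg _ (finsum_congr fun v => by rw [h v v.2])

theorem NL.iso {H : Type} [Group H] (e : H ≃* G) {E : Subgroup H} (h1 : ∀ y, e y ∈ D ↔ y ∈ E) (h : NL D ν) :
    NL E (ν ∘ e) := by
  obtain ⟨a1, a2, u, a3, a4⟩ := h
  refine ⟨fun u hu v hv => ?_, ?_, e.symm u, (h1 _).1 (by rwa [e.apply_symm_apply]), ?_⟩
  · simp only [Function.comp_apply, map_mul]
    exact a1 _ ((h1 u).2 hu) _ ((h1 v).2 hv)
  · rw [Function.comp_apply, map_one, a2]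
  · rwa [Function.comp_apply, e.apply_symm_apply]

theorem NL.sub {N : Subgroup G} (hD : D ≤ N) : NL (D.subgroupOf N) (fun n => ν n) ↔ NL D ν :=
  ⟨fun ⟨a1, a2, u, a3, a4⟩ => ⟨fun u hu v hv => a1 ⟨u, hD hu⟩ hu ⟨v, hD hv⟩ hv, a2, u, a3, a4⟩,
    fun ⟨a1, a2, u, a3, a4⟩ => ⟨fun u hu v hv => a1 u hu v hv, a2, ⟨u, hD a3⟩, a3, a4⟩⟩

/-- class functions -/
theorem W_cj (hf : IsClassFunction G f) {t : G} (ht : ∀ y, t * y * t⁻¹ ∈ D ↔ y ∈ D) :
    W p D (θ ∘ MulAut.conj t) f (ν ∘ MulAut.conj t) = W p D θ f ν := by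
  rw [← W_iso (MulAut.conj t) ht (f := f) (θ := θ) (ν := ν),
    show f ∘ MulAut.conj t = f from funext fun x => hf x t]

variable [Finite G]

/-- twisting -/
theorem W_tw (l : G →* ℂˣ) (hl : D ≤ l.ker) :
    W p D (fun g => θ g * l g) (fun g => l g * f g) ν = W p D θ f ν := by
  refine congrArg _ (finsum_congr fun v => congrArg _ (congrArg _ (finsum_congr fun x => ?_)))
  by_cases hx : p ∣ orderOf x
  · rw [regPart_of_dvd hx, regPart_of_dvd hx, zero_mul, zero_mul]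
  · rw [regPart_of_not_dvd hx, regPart_of_not_dvd hx]
    beta_reduce
    rw [map_mul, map_mul, show l v = 1 from hl v.2, one_mul, conj_lin, map_inv, Units.val_inv_eq_inv_val]
    field_simp

theorem dd_sum {ι : Type} (s : Finset ι) (a : ι → ℂ) (F : ι → G → ℂ) (v : G) :
    dd p θ (∑ i ∈ s, a i • F i) v = ∑ i ∈ s, a i * dd p θ (F i) v := by
  have := Fintype.ofFinite G
  simp only [dd, finsum_eq_sum_of_fintype, Finset.mul_sum]
  rw [Finset.sum_comm]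
  refine Finset.sum_congr rfl fun x _ => ?_
  by_cases hx : p ∣ orderOf x
  · simp only [regPart_of_dvd hx, zero_mul, mul_zero, Finset.sum_const_zero]
  · simp only [regPart_of_not_dvd hx, Finset.sum_apply, Pi.smul_apply, smul_eq_mul, Finset.sum_mul, mul_assoc]

theorem W_sum {ι : Type} (s : Finset ι) (a : ι → ℕ) (F : ι → G → ℂ) :
    W p D θ (∑ i ∈ s, (a i : ℂ) • F i) ν = ∑ i ∈ s, (a i : ℂ) * W p D θ (F i) ν := by
  have := Fintype.ofFinite D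
  simp only [W, UU, finsum_eq_sum_of_fintype, dd_sum, map_sum, map_mul, map_natCast, Finset.mul_sum]
  rw [Finset.sum_comm]
  exact Finset.sum_congr rfl fun i _ => Finset.sum_congr rfl fun v _ => by ring

omit [Finite G] in
theorem dd_inner {H : Type} [Group H] [Fintype H] {j : H →* G} (hj : Function.Injective j)
    (h0 : ∀ g, g ∉ j.range → θ g = 0) (v : G) :
    dd p θ f v = Nat.card H * classInner (regPart p fun y => f (v * j y)) fun y => θ (j y) := by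
  rw [dd_eq hj h0, Core.classInner_def, ← mul_assoc, mul_inv_cancel₀ Core.card_ne_zero_complex, one_mul,
    finsum_eq_sum_of_fintype]

end Defs

section Blk

variable {G : Type} [Group G] [Finite G] {p : ℕ} [hp : Fact p.Prime] {M : Ideal AlgInt} {B : Set (IrrCharacter G)}
  {D : Subgroup G} {θ f ν : G → ℂ}

theorem zpowers_eq (hD : Nat.card D = p) {v : G} (hv : v ∈ D) (h1 : v ≠ 1) : Subgroup.zpowers v = D := by
  have h2 : Subgroup.zpowers v ≤ D := Subgroup.zpowers_le.2 hv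
  refine Subgroup.eq_of_le_of_card_ge h2 (le_of_eq ?_)
  rw [hD]
  refine ((hp.out.eq_one_or_self_of_dvd _ (hD ▸ Subgroup.card_dvd_of_le h2)).resolve_left fun h => h1 ?_).symm
  rwa [Nat.card_zpowers, orderOf_eq_one_iff] at h

omit [Finite G] hp in
theorem range_sub (H : Subgroup G) {g : G} : g ∉ H.subtype.range ↔ g ∉ H := by rw [Subgroup.range_subtype]

/-- the second main theorem -/
theorem W_zero (h : Can p M B D θ) (hD : Nat.card D = p) (hν : ν 1 = 1) {ψ : IrrCharacter G} (hψ : ψ ∉ B) :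
    W p D θ ψ ν = 0 := by
  have := h.prime
  have := Fintype.ofFinite (Ce D)
  rw [W, UU, finsum_congr (g := fun _ => 0), finsum_zero, mul_zero]
  intro v
  by_cases hv : (v : G) = 1
  · rw [hv, hν, sub_self, zero_mul]
  have h1 : Ce D = Cu (v : G) := by rw [Cn.Cu_eq, zpowers_eq hD v.2 hv]
  have h2 := H639.wt_eq_zero h.hM (u := (v : G)) ⟨1, by rw [← Nat.card_zpowers, zpowers_eq hD v.2 hv, hD, pow_one]⟩ h1
    (isPBlock_blockOf ψ) (mem_blockOf_self ψ) (η := h.chr) fun h3 => hψ (ind_unique h3 h.ind ▸ mem_blockOf_self ψ)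
  rw [H613.Contrib.wt_def, H613.RegGram.rg_eq_classInner] at h2
  rw [dd_inner (Ce D).subtype_injective fun g hg => h.zero g ((range_sub _).1 hg)]
  exact mul_eq_zero_of_right _ ((map_eq_zero _).2 (mul_eq_zero_of_right _ h2))

omit hp in
/-- restriction to a subgroup -/
theorem W_res {N : Subgroup G} (hD : D ≤ N) (h0 : ∀ g, g ∉ N → θ g = 0) (h1 : ∀ g, g ∉ Ce D → θ g = 0)
    (hf : IsClassFunction G f) [Fintype (IrrCharacter (Ce D))] [Fintype (N.subgroupOf (Ce D))] :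
    W p (D.subgroupOf N) (fun n => θ n) (fun n => f n) (fun n => ν n) = ∑ ξ : IrrCharacter (Ce D),
      conj (classInner (fun n : N.subgroupOf (Ce D) => (ξ : Ce D → ℂ) n) fun n => θ ((n : Ce D) : G)) *
        W p D (extendByZero (Ce D) ξ) f ν := by
  have := Fintype.ofFinite (Ce D)
  have := Fintype.ofFinite D
  have e1 : Nat.card (Ce (D.subgroupOf N)) = Nat.card (N.subgroupOf (Ce D)) := Nat.card_congr
    { toFun := fun x => ⟨⟨(x : N), (mem_Ce_sub hD).1 x.2⟩, (x : N).2⟩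
      invFun := fun x => ⟨⟨(x : Ce D), x.2⟩, (mem_Ce_sub hD).2 x.1.2⟩
      left_inv := fun _ => rfl
      right_inv := fun _ => rfl }
  have e2 := UU_hom (p := p) (f := f) (ν := ν) (D := D) (E := D.subgroupOf N) N.subtype_injective
    (fun g hg => h0 g ((range_sub _).1 hg)) (fun _ => Iff.rfl) (by rwa [Subgroup.range_subtype])
  have e3 : ∀ v : D, (Nat.card (N.subgroupOf (Ce D)) : ℂ)⁻¹ * dd p θ f v = ∑ ξ : IrrCharacter (Ce D),
      classInner (fun n : N.subgroupOf (Ce D) => (ξ : Ce D → ℂ) n) (fun n => θ ((n : Ce D) : G)) *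
        ((Nat.card (Ce D) : ℂ)⁻¹ * dd p (extendByZero (Ce D) ξ) f v) := by
    intro v
    have a1 : IsClassFunction (Ce D) (regPart p fun c : Ce D => f (v * c)) := regPart_isClassFunction fun c x => by
      rw [← hf (v * c) x, Subgroup.coe_mul, Subgroup.coe_mul, Subgroup.coe_inv, ← mul_assoc, ← mul_assoc,
        mem_Ce.1 x.2 v v.2, mul_assoc (x : G)]
    rw [dd_inner (j := (Ce D).subtype.comp (N.subgroupOf (Ce D)).subtype)
      ((Ce D).subtype_injective.comp (N.subgroupOf (Ce D)).subtype_injective) fun g hg => by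
        by_contra a2
        exact hg ⟨⟨⟨g, by_contra fun a3 => a2 (h1 g a3)⟩, by_contra fun a3 => a2 (h0 g a3)⟩, rfl⟩,
      ← mul_assoc, inv_mul_cancel₀ Core.card_ne_zero_complex, one_mul]
    have a2 : (regPart p fun y : N.subgroupOf (Ce D) => f (v * ((Ce D).subtype.comp (N.subgroupOf (Ce D)).subtype) y)) =
        ∑ ξ : IrrCharacter (Ce D), classInner (regPart p fun c : Ce D => f (v * c)) (ξ : Ce D → ℂ) •
          fun n : N.subgroupOf (Ce D) => (ξ : Ce D → ℂ) n := by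
      funext y
      have a3 := congrFun (Core.classFunction_eq_sum a1) y
      rw [Finset.sum_apply] at a3 ⊢
      refine Eq.trans ?_ a3
      by_cases hy : p ∣ orderOf y
      · rw [regPart_of_dvd hy, regPart_of_dvd (by rwa [Subgroup.orderOf_coe])]
      · rw [regPart_of_not_dvd hy, regPart_of_not_dvd (by rwa [Subgroup.orderOf_coe])]
        rfl
    rw [a2, Core.classInner_sum_left]
    refine Finset.sum_congr rfl fun ξ _ => ?_
    rw [Core.classInner_smul_left, dd_inner (Ce D).subtype_injective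
      fun g hg => Core.extendByZero_of_notMem _ _ ((range_sub _).1 hg), ← mul_assoc (_⁻¹),
      inv_mul_cancel₀ Core.card_ne_zero_complex, one_mul, mul_comm]
    exact congrArg _ (congrArg _ (ext_coe _).symm)
  have e4 : ∀ (n : ℕ) (a z : ℂ), (n : ℂ)⁻¹ * (a * conj z) = a * conj ((n : ℂ)⁻¹ * z) := fun n a z => by
    rw [map_mul, map_inv₀, map_natCast]
    ring
  rw [W, e1]
  erw [e2]
  simp only [W, UU, finsum_eq_sum_of_fintype, Finset.mul_sum, e4, e3, map_sum, map_mul]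
  rw [Finset.sum_comm]
  refine Finset.sum_congr rfl fun ξ _ => Finset.sum_congr rfl fun v _ => ?_
  simp only [map_inv₀, map_natCast]
  ring

/-- the linear character -/
noncomputable def NL.hom (h : NL D ν) : D →* ℂˣ :=
  MonoidHom.toHomUnits ⟨⟨fun v => ν v, h.2.1⟩, fun u v => h.1 u u.2 v v.2⟩

omit [Finite G] hp in
theorem NL.hom_apply (h : NL D ν) (v : D) : (h.hom v : ℂ) = ν v := rfl

omit [Finite G] hp in
theorem NL.hom_ne (h : NL D ν) : h.hom ≠ 1 := fun e => by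
  obtain ⟨u, h1, h2⟩ := h.2.2
  exact h2 (by rw [← h.hom_apply ⟨u, h1⟩, e]; rfl)

omit [Finite G] hp in
theorem exists_NL (μ : D →* ℂˣ) (h : μ ≠ 1) : ∃ ν, NL D ν ∧ ∀ v : D, ν v = μ v := by
  have e : ∀ v : D, extendByZero D (fun v => (μ v : ℂ)) v = μ v := fun v => Core.extendByZero_of_mem _ _ v.2
  refine ⟨extendByZero D fun v => (μ v : ℂ), ⟨fun u hu v hv => ?_, ?_, ?_⟩, e⟩
  · rw [e ⟨u, hu⟩, e ⟨v, hv⟩, ← Units.val_mul, ← map_mul]
    exact e (⟨u, hu⟩ * ⟨v, hv⟩)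
  · exact (e 1).trans (by rw [map_one, Units.val_one])
  · by_contra h1
    push Not at h1
    exact h (MonoidHom.ext fun v => Units.ext ((e v).symm.trans (h1 v v.2)))

/-- **defect one** -/
theorem def1 (h : Can p M B D θ) (hD : Nat.card D = p) : ∃ (s : IrrCharacter G → ℂ) (X : Set (IrrCharacter G)),
    X ⊆ B ∧ (∀ χ ∈ B, s χ = 1 ∨ s χ = -1) ∧ (∀ χ ∈ B, χ ∉ X → ∀ ν, NL D ν → W p D θ χ ν = s χ) ∧
    (∀ χ ∈ X, ∃ μ, NL D μ ∧ ∀ ν, NL D ν → (Rel D θ μ ν ∧ W p D θ χ ν = s χ) ∨ (¬ Rel D θ μ ν ∧ W p D θ χ ν = 0)) ∧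
    (∀ χ ∈ X, ∀ χ' ∈ X, ∀ ν, NL D ν → W p D θ χ ν ≠ 0 → W p D θ χ' ν ≠ 0 → χ = χ') ∧
    (B \ X).ncard = (Ce D).relIndex (In D θ) ∧ (Ce D).relIndex (In D θ) * X.ncard + 1 = p := by
  classical
  have := h.prime
  have := Fintype.ofFinite G
  have := Core.finite_irr (G := G)
  have := Fintype.ofFinite B
  have hcyc : IsCyclic D := isCyclic_of_prime_card hD
  have hne : D ≠ ⊥ := fun e => hp.out.ne_one (by rw [← hD, e, Subgroup.card_bot])
  obtain ⟨c, ζ, hF, hk⟩ := H639.cyc_full h.hM h.hD hne hcyc h.ind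
  have := hF.finite_Orb
  have := hF.nonempty_Orb
  have := Fintype.ofFinite (H639.Orb (⟨D, Can.root M D θ⟩ : BrauerPairIdx G))
  have hT : H639.stabT (⟨D, Can.root M D θ⟩ : BrauerPairIdx G) = In D θ := Subgroup.ext fun x =>
    (H639.mem_stabT_iff h.hM h.he).trans (h.mem_In_iff x).symm
  have he := H639.card_inQ hF.hs
  rw [hT] at he
  have hm := hF.card_Orb
  obtain ⟨α, a1, a2, a3⟩ := hF.exists_matrix
  obtain ⟨E, s, a4, a5⟩ := H639.comb_equiv _ α a2 a3 (by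
    rw [← Nat.card_eq_fintype_card, ← Nat.card_eq_fintype_card]
    exact hk)
  have hζ : ζ D = θ := by
    obtain ⟨χ, b1, ε, -, b2, b3, b4⟩ := (hF.hg D le_rfl hne).exists_chi
    have b5 : Can.root M D θ = c D := hF.hs.eq_of_le Relation.ReflTransGen.refl
    rw [← b5] at b1
    have b6 := h.eq_chr b1 fun d hd => (H639.inKer_iff h.ab χ).1 b3 d hd
    rw [b2, b4 (Nat.le_mul_of_pos_left _ two_pos), b6]
    funext x
    rw [Int.cast_one, one_mul]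
    by_cases hx : x ∈ Ce D
    · exact H639.ei_of_mem _ hx
    · rw [H639.ei_of_notMem _ hx, h.zero x hx]
  have hW : ∀ (f ν : G → ℂ) (hν : NL D ν), W p D θ f ν = H639.wB p D ζ f hν.hom := by
    intro f ν hν
    rw [W, UU, H639.wB, finsum_eq_sum_of_fintype, Finset.mul_sum, Finset.mul_sum]
    refine Finset.sum_congr (by convert rfl) fun v _ => ?_
    rw [hν.hom_apply]
    by_cases hv : (v : G) = 1
    · rw [hv, hν.2.1, sub_self, zero_mul, zero_mul, mul_zero, mul_zero]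
    have b1 : dd p θ f v = ∑ x : G, if x ∈ Ce D ∧ ¬ p ∣ orderOf x then f (v * x) * conj (θ x) else 0 := by
      rw [dd, finsum_eq_sum_of_fintype]
      refine Finset.sum_congr rfl fun x _ => ?_
      by_cases hx : p ∣ orderOf x
      · rw [regPart_of_dvd hx, zero_mul, if_neg fun b2 => b2.2 hx]
      · rw [regPart_of_not_dvd hx]
        by_cases hx' : x ∈ Ce D
        · rw [if_pos ⟨hx', hx⟩]
        · rw [if_neg fun b2 => hx' b2.1, h.zero x hx', map_zero, mul_zero]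
    have b2 : (Nat.card D : ℂ) ≠ 0 := Core.card_ne_zero_complex
    rw [H639.AA_def, bot_sup_eq, zpowers_eq hD v.2 hv, hζ, H639.col_def, H639.rip_def, b1, map_mul, map_mul,
      map_natCast, map_inv₀, map_natCast]
    field_simp
  have hR : ∀ (μ ν : G → ℂ) (hμ : NL D μ) (hν : NL D ν), Rel D θ μ ν ↔
      (⟦⟨hμ.hom, hμ.hom_ne⟩⟧ : H639.Orb (⟨D, Can.root M D θ⟩ : BrauerPairIdx G)) = ⟦⟨hν.hom, hν.hom_ne⟩⟧ := by
    intro μ ν hμ hν
    rw [Quotient.eq]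
    constructor
    · rintro ⟨t, b1, b2⟩
      exact ⟨_, ⟨⟨t, hT ▸ b1⟩, rfl⟩, MonoidHom.ext fun v => Units.ext (b2 v v.2).symm⟩
    · rintro ⟨_, ⟨t, rfl⟩, b1⟩
      refine ⟨t, hT ▸ t.2, fun u hu => ?_⟩
      have b2 := congrArg Units.val (DFunLike.congr_fun b1 (⟨u, hu⟩ : D))
      exact b2.symm
  have hV : ∀ (χ : B) (ν : G → ℂ) (hν : NL D ν), W p D θ χ.1 ν =
      s χ * (((E χ).elim (fun _ => 1) (fun j => if ⟦⟨hν.hom, hν.hom_ne⟩⟧ = j then 1 else 0) : ℤ) : ℂ) := by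
    intro χ ν hν
    rw [hW _ ν hν, a1 χ ⟨hν.hom, hν.hom_ne⟩, a5, Int.cast_mul]
  let X : Set (IrrCharacter G) := Subtype.val '' (E.symm '' Set.range Sum.inr)
  have hX : ∀ χ : B, χ.1 ∈ X ↔ ∃ j, E χ = Sum.inr j := fun χ => by
    rw [Subtype.val_injective.mem_set_image]
    exact ⟨fun ⟨_, ⟨j, hj⟩, b1⟩ => ⟨j, by rw [← b1, E.apply_symm_apply, hj]⟩,
      fun ⟨j, hj⟩ => ⟨_, ⟨j, hj.symm⟩, E.symm_apply_apply χ⟩⟩
  have hXB : X ⊆ B := by
    rintro _ ⟨χ, -, rfl⟩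
    exact χ.2
  have hXc : X.ncard = Nat.card (H639.Orb (⟨D, Can.root M D θ⟩ : BrauerPairIdx G)) := by
    rw [Set.ncard_image_of_injective _ Subtype.val_injective, Set.ncard_image_of_injective _ E.symm.injective,
      Set.ncard_range_of_injective Sum.inr_injective]
  obtain ⟨s', hs'⟩ : ∃ s' : IrrCharacter G → ℂ, ∀ χ (hχ : χ ∈ B), s' χ = s ⟨χ, hχ⟩ :=
    ⟨fun χ => if hχ : χ ∈ B then s ⟨χ, hχ⟩ else 1, fun χ hχ => dif_pos hχ⟩
  refine ⟨s', X, hXB, fun χ hχ => ?_, fun χ hχ b1 ν hν => ?_,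
    fun χ hχ => ?_, fun χ hχ χ' hχ' ν hν b1 b2 => ?_, ?_, ?_⟩
  · rw [hs' χ hχ]
    rcases a4 ⟨χ, hχ⟩ with b1 | b1 <;> simp [b1]
  · rw [hs' χ hχ, hV ⟨χ, hχ⟩ ν hν]
    rcases b2 : E ⟨χ, hχ⟩ with i | j
    · simp
    · exact absurd ((hX ⟨χ, hχ⟩).2 ⟨j, b2⟩) b1
  · obtain ⟨j, b1⟩ := (hX ⟨χ, hXB hχ⟩).1 hχ
    obtain ⟨μ, rfl⟩ := Quotient.exists_rep j
    obtain ⟨μ', b2, b3⟩ := exists_NL μ.1 μ.2
    have b4 : μ = ⟨b2.hom, b2.hom_ne⟩ := Subtype.ext (MonoidHom.ext fun v => Units.ext (b3 v).symm)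
    refine ⟨μ', b2, fun ν hν => ?_⟩
    rw [hs' χ (hXB hχ), hV ⟨χ, hXB hχ⟩ ν hν, b1, hR μ' ν b2 hν, ← b4, Sum.elim_inr]
    by_cases b5 : (⟦μ⟧ : H639.Orb (⟨D, Can.root M D θ⟩ : BrauerPairIdx G)) = ⟦⟨hν.hom, hν.hom_ne⟩⟧
    · exact Or.inl ⟨b5, by rw [if_pos b5.symm, Int.cast_one, mul_one]⟩
    · exact Or.inr ⟨b5, by rw [if_neg fun b6 => b5 b6.symm, Int.cast_zero, mul_zero]⟩
  · obtain ⟨j, b3⟩ := (hX ⟨χ, hXB hχ⟩).1 hχ
    obtain ⟨j', b4⟩ := (hX ⟨χ', hXB hχ'⟩).1 hχ'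
    rw [hV ⟨χ, hXB hχ⟩ ν hν, b3, Sum.elim_inr] at b1
    rw [hV ⟨χ', hXB hχ'⟩ ν hν, b4, Sum.elim_inr] at b2
    have b5 : ⟦⟨hν.hom, hν.hom_ne⟩⟧ = j := by_contra fun b6 => b1 (by rw [if_neg b6, Int.cast_zero, mul_zero])
    have b6 : ⟦⟨hν.hom, hν.hom_ne⟩⟧ = j' := by_contra fun b6 => b2 (by rw [if_neg b6, Int.cast_zero, mul_zero])
    exact congrArg Subtype.val (E.injective (b3.trans (b5 ▸ b6 ▸ b4.symm)))
  · rw [Set.ncard_sdiff hXB, hXc, ← Nat.card_coe_set_eq, hk, he, Nat.add_sub_cancel]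
  · rw [hXc, ← he, hm, hD]

theorem W_val (h : Can p M B D θ) (hD : Nat.card D = p) {χ : IrrCharacter G} (hχ : χ ∈ B) : ∃ s : ℂ,
    (s = 1 ∨ s = -1) ∧ (∀ ν, NL D ν → W p D θ χ ν = 0 ∨ W p D θ χ ν = s) ∧ ∃ ν, NL D ν ∧ W p D θ χ ν = s := by
  obtain ⟨s, X, a1, a2, a3, a4, -, -, a7⟩ := def1 h hD
  refine ⟨s χ, a2 χ hχ, fun ν hν => ?_, ?_⟩
  · by_cases hX : χ ∈ X
    · obtain ⟨μ, -, b1⟩ := a4 χ hX
      exact (b1 ν hν).elim (fun b2 => Or.inr b2.2) fun b2 => Or.inl b2.2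
    · exact Or.inr (a3 χ hχ hX ν hν)
  · by_cases hX : χ ∈ X
    · obtain ⟨μ, b1, b2⟩ := a4 χ hX
      exact ⟨μ, b1, ((b2 μ b1).resolve_right fun b3 => b3.1 ⟨1, one_mem _, fun u _ => by simp⟩).2⟩
    · obtain ⟨ψ, hψ⟩ : X.Nonempty := Set.nonempty_of_ncard_ne_zero fun e => hp.out.ne_one (by rw [← a7, e]; simp)
      obtain ⟨μ, b1, -⟩ := a4 ψ hψ
      exact ⟨μ, b1, a3 χ hχ hX μ b1⟩

theorem ne_zero_of {s : ℂ} (h : s = 1 ∨ s = -1) : s ≠ 0 := by
  rcases h with rfl | rfl <;> simp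

theorem W_uniq (h : Can p M B D θ) (hD : Nat.card D = p) {χ χ' : IrrCharacter G} (hχ : χ ∈ B) (hχ' : χ' ∈ B)
    (h1 : ¬ Con p D θ χ) (h2 : ¬ Con p D θ χ') (hν : NL D ν) (h3 : W p D θ χ ν ≠ 0) (h4 : W p D θ χ' ν ≠ 0) :
    χ = χ' := by
  obtain ⟨s, X, a1, a2, a3, a4, a5, -, -⟩ := def1 h hD
  have key : ∀ ψ ∈ B, ¬ Con p D θ ψ → ψ ∈ X := fun ψ hψ b1 => by_contra fun b2 => b1 fun μ hμ => by
    rw [a3 ψ hψ b2 μ hμ]
    exact ne_zero_of (a2 ψ hψ)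
  exact a5 χ (key χ hχ h1) χ' (key χ' hχ' h2) ν hν h3 h4

theorem W_orb (h : Can p M B D θ) (hD : Nat.card D = p) {χ : IrrCharacter G} (hχ : χ ∈ B)
    (h1 : ¬ Con p D θ χ) {ν' : G → ℂ} (hν : NL D ν) (hν' : NL D ν') (h3 : W p D θ χ ν ≠ 0)
    (h4 : W p D θ χ ν' ≠ 0) : Rel D θ ν ν' := by
  obtain ⟨s, X, a1, a2, a3, a4, -, -, -⟩ := def1 h hD
  obtain ⟨μ, -, b1⟩ := a4 χ (by_contra fun b2 => h1 fun μ hμ => by
    rw [a3 χ hχ b2 μ hμ]
    exact ne_zero_of (a2 χ hχ))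
  obtain ⟨t, c1, c2⟩ := ((b1 ν hν).resolve_right fun b2 => h3 b2.2).1
  obtain ⟨t', c3, c4⟩ := ((b1 ν' hν').resolve_right fun b2 => h4 b2.2).1
  refine ⟨t⁻¹ * t', mul_mem (inv_mem c1) c3, fun u hu => ?_⟩
  rw [c4 u hu, c2 _ (((mem_In.1 (mul_mem (inv_mem c1) c3)).1 u).2 hu)]
  congr 1
  group

theorem W_cnt (h : Can p M B D θ) (hD : Nat.card D = p) :
    ((∀ χ ∈ B, Con p D θ χ) ∧ (Ce D).relIndex (In D θ) + 1 = p ∧ B.ncard = p) ∨
    ((∃ χ ∈ B, ¬ Con p D θ χ) ∧ {χ ∈ B | Con p D θ χ}.ncard = (Ce D).relIndex (In D θ) ∧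
      (Ce D).relIndex (In D θ) * {χ ∈ B | ¬ Con p D θ χ}.ncard + 1 = p) := by
  have := Core.finite_irr (G := G)
  obtain ⟨s, X, a1, a2, a3, a4, a5, a6, a7⟩ := def1 h hD
  have key : ∀ ψ ∈ B, ¬ Con p D θ ψ → ψ ∈ X := fun ψ hψ b1 => by_contra fun b2 => b1 fun μ hμ => by
    rw [a3 ψ hψ b2 μ hμ]
    exact ne_zero_of (a2 ψ hψ)
  by_cases hX : ∀ χ ∈ X, ¬ Con p D θ χ
  · have e1 : {χ ∈ B | ¬ Con p D θ χ} = X := Set.ext fun χ => ⟨fun b1 => key χ b1.1 b1.2, fun b1 => ⟨a1 b1, hX χ b1⟩⟩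
    have e2 : {χ ∈ B | Con p D θ χ} = B \ X := Set.ext fun χ =>
      ⟨fun b1 => ⟨b1.1, fun b2 => hX χ b2 b1.2⟩, fun b1 => ⟨b1.1, by_contra fun b2 => b1.2 (key χ b1.1 b2)⟩⟩
    obtain ⟨ψ, hψ⟩ : X.Nonempty := Set.nonempty_of_ncard_ne_zero fun e => hp.out.ne_one (by rw [← a7, e]; simp)
    exact Or.inr ⟨⟨ψ, a1 hψ, hX ψ hψ⟩, e2 ▸ a6, e1 ▸ a7⟩
  · push Not at hX
    obtain ⟨χ, b1, b2⟩ := hX
    have e1 : X = {χ} := Set.eq_singleton_iff_unique_mem.2 ⟨b1, fun ψ hψ => by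
      obtain ⟨s', c1, -, ν, c2, c3⟩ := W_val h hD (a1 hψ)
      exact a5 ψ hψ χ b1 ν c2 (c3 ▸ ne_zero_of c1) (b2 ν c2)⟩
    rw [e1, Set.ncard_singleton, mul_one] at a7
    refine Or.inl ⟨fun ψ hψ => by_contra fun b3 => ?_, a7, ?_⟩
    · have b4 := key ψ hψ b3
      rw [e1, Set.mem_singleton_iff] at b4
      exact b3 (b4 ▸ b2)
    · rw [← a7, ← a6, ← Set.ncard_sdiff_add_ncard_of_subset a1, e1, Set.ncard_singleton]

omit [Finite G] hp in
theorem Con.iso {H : Type} [Group H] (e : H ≃* G) {E : Subgroup H} (h1 : ∀ y, e y ∈ D ↔ y ∈ E) :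
    Con p E (θ ∘ e) (f ∘ e) ↔ Con p D θ f := by
  refine ⟨fun h ν hν => W_iso (θ := θ) (f := f) e h1 ▸ h _ (hν.iso e h1), fun h ν hν => ?_⟩
  have e1 : ν = (ν ∘ e.symm) ∘ e := funext fun x => by simp
  rw [e1, W_iso e h1]
  exact h _ (hν.iso e.symm fun y => by rw [← h1, e.apply_symm_apply])

omit [Finite G] hp in
theorem W_LA {α : MulAut G} (h : α ∈ LA D θ) : W p D θ (f ∘ α) (ν ∘ α) = W p D θ f ν := by
  rw [← W_iso (θ := θ) (f := f) (ν := ν) α h.1, show θ ∘ α = θ from funext h.2]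

omit [Finite G] hp in
theorem Con.LA {α : MulAut G} (h : α ∈ LA D θ) : Con p D θ (f ∘ α) ↔ Con p D θ f := by
  rw [← Con.iso (θ := θ) (f := f) α h.1, show θ ∘ α = θ from funext h.2]

end Blk

end Cfsg.Agent.BH.S1
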