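import Cfsg.Agent.BH.S1.Def1
import Cfsg.Agent.BH.PB

/-!
# BH, box S1: cyclic extensions of order prime to `p` (helper58)
-/

set_option autoImplicit false

namespace Cfsg.Agent.BH.S1

open Cfsg Cfsg.Agent Cfsg.Agent.Characters Cfsg.Agent.Blocks.Basic Cfsg.Agent.Blocks.Local
open Cfsg.Agent.TO Cfsg.Agent.TO.Cov
open Cfsg.Agent.H666.Clif (tl tl_apply Ov ov_iff exists_tl)
open scoped ComplexConjugate

section Gen

variable {G : Type} [Group G]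

/-- the inner product, not normalised -/
noncomputable def ip (φ θ : G → ℂ) : ℂ := ∑ᶠ x, φ x * conj (θ x)

theorem ip_eq {H : Type} [Group H] [Fintype H] {j : H →* G} (hj : Function.Injective j) {φ θ : G → ℂ}
    (h0 : ∀ g, g ∉ j.range → θ g = 0) : ip φ θ = Nat.card H * classInner (fun y => φ (j y)) fun y => θ (j y) := by
  rw [ip, fs_hom hj fun g hg => by rw [h0 g hg, map_zero, mul_zero], Core.classInner_def, ← mul_assoc,
    mul_inv_cancel₀ Core.card_ne_zero_complex, one_mul, finsum_eq_sum_of_fintype]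

theorem ip_aut (α : MulAut G) (φ θ : G → ℂ) : ip (φ ∘ α) (θ ∘ α) = ip φ θ :=
  finsum_comp_equiv α.toEquiv (f := fun x => φ x * conj (θ x))

variable [Finite G]

/-- multiplicity one -/
theorem mult_one (N : Subgroup G) [N.Normal] [Fintype N] (hc : IsCyclic (G ⧸ N)) {χ : IrrCharacter G}
    {ε : IrrCharacter N} (h : Ov N χ ε) : classInner (fun n : N => (χ : G → ℂ) n) (ε : N → ℂ) = 1 := by
  have := Fintype.ofFinite G
  have := Fintype.ofFinite (H666.Clif.stab N (ε : N → ℂ))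
  have hNT := H666.Clif.le_stab N (irr_isClassFunction ε.2)
  obtain ⟨ψ, h1, -, h2⟩ := CharDeep.CliffordCorr.clifford_correspondence N _ ε.2 (H666.Clif.stab N (ε : N → ℂ))
    (fun g => (H666.Clif.mem_stab N _ g).trans funext_iff) hNT _ χ.2 ((ov_iff _ _ _).1 h)
  have := Fintype.ofFinite (N.subgroupOf (H666.Clif.stab N (ε : N → ℂ)))
  let e := Subgroup.subgroupOfEquivOfLe hNT
  have h3 : Ov (N.subgroupOf (H666.Clif.stab N (ε : N → ℂ))) ⟨ψ, h1⟩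
      ⟨_, Core.isIrr_comp e.toMonoidHom e.surjective ε.2⟩ := by
    have h4 := (ov_iff _ _ _).1 h
    rw [← h2, ← Clifford.classInner_comp_mulEquiv e] at h4
    exact (ov_iff _ _ _).2 h4
  have h4 := res_of_inv _ (cyc_sub N _ hc) h3 fun g n =>
    congrFun ((H666.Clif.mem_stab N (ε : N → ℂ) g).1 g.2) ⟨n, n.2⟩
  rw [← h2, show (fun n : N => ψ ⟨n, hNT n.2⟩) = (ε : N → ℂ) from funext fun n => h4 ⟨⟨n, hNT n.2⟩, n.2⟩,
    Core.classInner_irr_self ε.2]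

/-- the intermediate constituent is unique if the multiplicity is one -/
theorem mid {X : Type} [Group X] [Fintype X] (K : Subgroup X) [Fintype K] {χ : X → ℂ} (hχ : IsCharacter X χ)
    {ε : K → ℂ} (hε : IsCharacter K ε) (h : classInner (fun k : K => χ k) ε = 1) :
    ∃! ψ : IrrCharacter X, classInner χ (ψ : X → ℂ) ≠ 0 ∧ classInner (fun k : K => (ψ : X → ℂ) k) ε ≠ 0 := by
  classical
  have := Core.finite_irr (G := X)
  have := Fintype.ofFinite (IrrCharacter X)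
  obtain ⟨c, h1, h2⟩ := CharDeep.CliffordCorr.exists_nat_coeffs hχ
  choose d hd using fun ψ : IrrCharacter X =>
    Core.classInner_isNat (Clifford.isCharacter_restrict K (irr_isCharacter ψ.2)) hε
  have h3 : (fun k : K => χ k) = ∑ ψ : IrrCharacter X, (c ψ : ℂ) • fun k : K => (ψ : X → ℂ) k := funext fun k => by
    rw [congrFun h1 k, Finset.sum_apply, Finset.sum_apply]
    rfl
  rw [h3, Core.classInner_sum_left] at h
  simp only [Core.classInner_smul_left, hd] at h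
  have h4 : ∑ ψ : IrrCharacter X, c ψ * d ψ = 1 := by exact_mod_cast h
  simp only [h2, hd, Nat.cast_ne_zero]
  obtain ⟨ψ, -, h5⟩ := Finset.exists_ne_zero_of_sum_ne_zero (h4.trans_ne one_ne_zero)
  refine ⟨ψ, mul_ne_zero_iff.1 h5, fun ψ' h6 => by_contra fun h7 => ?_⟩
  have h8 := Finset.add_le_sum (f := fun ψ => c ψ * d ψ) (fun _ _ => Nat.zero_le _) (Finset.mem_univ ψ')
    (Finset.mem_univ ψ) h7
  have h9 := mul_ne_zero h6.1 h6.2
  omega

theorem mid' {X : Type} [Group X] [Fintype X] (K : Subgroup X) [K.Normal] [Fintype K] (hc : IsCyclic (X ⧸ K))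
    {χ ε : X → ℂ} (hχ : IsCharacter X χ) (hε : IsIrrCharacter K fun k => ε k)
    (hi : ∀ g : X, ∀ k ∈ K, ε (g * k * g⁻¹) = ε k) (h : classInner (fun k : K => χ k) (fun k : K => ε k) = 1) :
    ∃! ψ : IrrCharacter X, classInner χ (ψ : X → ℂ) ≠ 0 ∧ ∀ k ∈ K, (ψ : X → ℂ) k = ε k := by
  obtain ⟨ψ, ⟨a1, a2⟩, a3⟩ := mid K hχ (irr_isCharacter hε) h
  refine ⟨ψ, ⟨a1, fun k hk => res_of_inv K hc ((ov_iff K ψ ⟨_, hε⟩).2 a2) (fun g n => hi g n n.2) ⟨k, hk⟩⟩,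
    fun ψ' h1 => a3 ψ' ⟨h1.1, ?_⟩⟩
  rw [funext fun k : K => h1.2 k k.2, Core.classInner_irr_self hε]
  exact one_ne_zero

omit [Finite G] in
theorem cyc_comap {X : Type} [Group X] (j : X →* G) (N : Subgroup G) [N.Normal] (hc : IsCyclic (G ⧸ N)) :
    IsCyclic (X ⧸ N.comap j) := by
  refine isCyclic_of_injective (QuotientGroup.map (N.comap j) N j le_rfl) ?_
  rw [injective_iff_map_eq_one]
  intro x hx
  obtain ⟨y, rfl⟩ := QuotientGroup.mk_surjective x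
  exact (QuotientGroup.eq_one_iff _).2 ((QuotientGroup.eq_one_iff (N := N) (j y)).1 hx)

omit [Finite G] in
theorem cyc_Ce {p : ℕ} [hp : Fact p.Prime] {D : Subgroup G} (hD : Nat.card D = p) {J : Subgroup G}
    (hJ : J ≤ Subgroup.normalizer (D : Set G)) :
    ∃ _ : ((Ce D).subgroupOf J).Normal, IsCyclic (J ⧸ (Ce D).subgroupOf J) := by
  have hc : IsCyclic D := isCyclic_of_prime_card hD
  have h1 : IsCyclic (ZMod (Nat.card D))ˣ := by rw [hD]; exact ZMod.isCyclic_units_prime hp.out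
  have h2 : IsCyclic (MulAut D) := (MulEquiv.isCyclic (IsCyclic.mulAutMulEquiv D)).2 h1
  have h3 : (D.normalizerMonoidHom.comp (Subgroup.inclusion hJ)).ker = (Ce D).subgroupOf J := by
    rw [← MonoidHom.comap_ker, Subgroup.normalizerMonoidHom_ker]
    rfl
  rw [← h3]
  exact ⟨inferInstance, isCyclic_of_injective _ (QuotientGroup.kerLift_injective _)⟩

variable {p : ℕ} [Fact p.Prime] {M : Ideal AlgInt} {B : Set (IrrCharacter G)} {D : Subgroup G} {φ : G → ℂ}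

theorem can_cj (h : Can p M B D φ) {t : G} (ht : ∀ y, t * y * t⁻¹ ∈ D ↔ y ∈ D) :
    Can p M B D (φ ∘ MulAut.conj t) := by
  have h1 := h.map (MulAut.conj t)⁻¹
  rwa [Cn.mem_Stab_iff.1 (inv_mem (Cov.conj_mem_Stab B t)), Cn.map_eq_of_iff fun x => by
    rw [← ht, ← MulAut.conj_apply, MulAut.apply_inv_self]] at h1

end Gen

variable {G : Type} [Group G]

/-- the setting -/
structure CY (p : ℕ) (M : Ideal AlgInt) (N : Subgroup G) [N.Normal] (b : Set (IrrCharacter N)) (D : Subgroup G)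
    (θ : G → ℂ) : Prop where
  cyc : IsCyclic (G ⧸ N)
  idx : ¬ p ∣ N.index
  le : D ≤ N
  card : Nat.card D = p
  zero : ∀ g, g ∉ N → θ g = 0
  can : Can p M b (D.subgroupOf N) fun n => θ n
  top : N ⊔ In D θ = ⊤

/-- the characters of `C(D)` over `θ` -/
def Th (D : Subgroup G) (θ : G → ℂ) : Set (G → ℂ) :=
  {φ | IsIrrCharacter (Ce D) (fun c => φ c) ∧ (∀ g, g ∉ Ce D → φ g = 0) ∧ ip φ θ ≠ 0}

/-- `W` for the restriction to `N` -/
noncomputable abbrev WN (p : ℕ) (N D : Subgroup G) (θ f ν : G → ℂ) : ℂ :=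
  W p (D.subgroupOf N) (fun n => θ n) (fun n => f n) fun n => ν n

/-- `C_N(D)` -/
abbrev jL (N D : Subgroup G) : N.subgroupOf (Ce D) →* G := (Ce D).subtype.comp (N.subgroupOf (Ce D)).subtype

theorem jL_inj (N D : Subgroup G) : Function.Injective (jL N D) :=
  (Ce D).subtype_injective.comp (N.subgroupOf (Ce D)).subtype_injective

theorem cj_fix {D : Subgroup G} {θ : G → ℂ} {t : G} (ht : t ∈ In D θ) : θ ∘ MulAut.conj t = θ :=
  funext (mem_In.1 ht).2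

theorem cj_mem {D : Subgroup G} {θ φ : G → ℂ} (h : φ ∈ Th D θ) {t : G} (ht : t ∈ In D θ) :
    φ ∘ MulAut.conj t ∈ Th D θ := by
  have hn := In_le_normalizer ht
  let κ : MulAut (Ce D) := (Ce D).normalizerMonoidHom ⟨t, Subgroup.mem_normalizer_iff.2 fun x => (Cov.conj_mem_Ce hn).symm⟩
  refine ⟨Core.isIrr_comp κ.toMonoidHom κ.surjective h.1, fun g hg => h.2.1 _ fun h1 => hg ((Cov.conj_mem_Ce hn).1 h1), ?_⟩
  rw [← cj_fix ht, ip_aut]
  exact h.2.2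

variable [Finite G] {p : ℕ} {M : Ideal AlgInt} {N : Subgroup G} [N.Normal] {b : Set (IrrCharacter N)}
  {D : Subgroup G} {θ φ φ' : G → ℂ} {B B' : Set (IrrCharacter G)}

namespace CY

omit [Finite G] in
theorem zL (C : CY p M N b D θ) (g : G) (hg : g ∉ (jL N D).range) :
    θ g = 0 := by
  by_contra a2
  exact hg ⟨⟨⟨g, by_contra fun a3 => a2 (zero_C C.le C.zero C.can a3)⟩, by_contra fun a3 => a2 (C.zero g a3)⟩, rfl⟩

omit [Finite G] in
theorem ipL (C : CY p M N b D θ) [Fintype (N.subgroupOf (Ce D))] (φ : G → ℂ) : ip φ θ =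
    Nat.card (N.subgroupOf (Ce D)) * classInner (fun n : N.subgroupOf (Ce D) => φ ((n : Ce D) : G))
      (thL C.le C.can : N.subgroupOf (Ce D) → ℂ) :=
  ip_eq (jL_inj N D) C.zL

theorem ov_iff' (C : CY p M N b D θ) (h : IsIrrCharacter (Ce D) fun c => φ c) :
    ip φ θ ≠ 0 ↔ Ov (N.subgroupOf (Ce D)) ⟨_, h⟩ (thL C.le C.can) := by
  have := Fintype.ofFinite (Ce D)
  have := Fintype.ofFinite (N.subgroupOf (Ce D))
  rw [C.ipL, ov_iff, mul_ne_zero_iff_left Core.card_ne_zero_complex]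

theorem ip_self (C : CY p M N b D θ) (h : φ ∈ Th D θ) : ip φ θ = ip θ θ := by
  have := Fintype.ofFinite (N.subgroupOf (Ce D))
  rw [C.ipL, C.ipL]
  exact congrArg _ ((mult_one _ (cyc_sub N (Ce D) C.cyc) ((C.ov_iff' h.1).1 h.2.2)).trans
    (Core.classInner_irr_self (thL C.le C.can).2).symm)

theorem tw (C : CY p M N b D θ) (h : φ ∈ Th D θ) (h' : φ' ∈ Th D θ) :
    ∃ l : G →* ℂˣ, N ≤ l.ker ∧ φ = fun g => φ' g * l g := by
  obtain ⟨l, h1, h2⟩ := exists_tl _ (cyc_sub N (Ce D) C.cyc) ((C.ov_iff' h'.1).1 h'.2.2) ((C.ov_iff' h.1).1 h.2.2)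
  obtain ⟨m, h3, h4⟩ := PB.ext_mod (N := N) (fun x y => by
    have h5 := comm_mem N C.cyc x⁻¹ y
    rwa [show x⁻¹ * y * x⁻¹⁻¹ * y⁻¹ = x⁻¹ * (y * x * y⁻¹) by group] at h5) (Ce D).subtype l h1
  refine ⟨m, h3, funext fun g => ?_⟩
  by_cases hg : g ∈ Ce D
  · rw [mul_comm, show m g = l ⟨g, hg⟩ from h4 ⟨g, hg⟩]
    exact congrFun (congrArg Subtype.val h2) ⟨g, hg⟩
  · rw [h.2.1 g hg, h'.2.1 g hg, zero_mul]

omit [Finite G] in
theorem rep (C : CY p M N b D θ) (g : G) : ∃ t ∈ In D θ, ∀ f : N → ℂ, IsClassFunction N f →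
    f ∘ MulAut.conjNormal g = f ∘ MulAut.conjNormal t := by
  have h1 : g ∈ ((N ⊔ In D θ : Subgroup G) : Set G) := C.top ▸ Subgroup.mem_top g
  rw [Subgroup.normal_mul] at h1
  obtain ⟨n, hn, t, ht, rfl⟩ := h1
  refine ⟨t, ht, fun f hf => funext fun x => ?_⟩
  rw [Function.comp_apply, Function.comp_apply, ← hf (MulAut.conjNormal t x) ⟨n, hn⟩, map_mul]
  rfl

variable [Fact p.Prime]

theorem can_of (C : CY p M N b D θ) (h : φ ∈ Th D θ) : ∃ B, Can p M B D φ := by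
  have := Fintype.ofFinite N
  obtain ⟨B, h1, -⟩ := exists_can C.idx C.le C.zero C.can ((C.ov_iff' h.1).1 h.2.2)
  exact ⟨B, ext_res h.2.1 ▸ h1⟩

theorem adj (C : CY p M N b D θ) (h : φ ∈ Th D θ) (h' : φ' ∈ Th D θ) (c : Can p M B D φ) (c' : Can p M B D φ') :
    ∃ t ∈ In D θ, φ' = φ ∘ MulAut.conj t := by
  have := Fintype.ofFinite (Ce D)
  have := Fintype.ofFinite (N.subgroupOf (Ce D))
  obtain ⟨x, h1, h2⟩ := c.conj c'
  have hn : x ∈ Subgroup.normalizer (D : Set G) := Subgroup.mem_normalizer_iff.2 fun y => (h1 y).symm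
  have hz : ∀ g, g ∉ (jL N D).range → (θ ∘ MulAut.conj x) g = 0 :=
    fun g hg => C.zL _ fun ⟨y, hy⟩ => hg ⟨⟨⟨g, (Cov.conj_mem_Ce hn).1 (show MulAut.conj x g ∈ Ce D from hy ▸ y.1.2)⟩,
      (conj_mem_iff N x g).1 (show MulAut.conj x g ∈ N from hy ▸ y.2)⟩, rfl⟩
  let κ : N.subgroupOf (Ce D) →* N.subgroupOf (Ce D) :=
    { toFun := fun n => ⟨⟨x * (n : Ce D) * x⁻¹, (Cov.conj_mem_Ce hn).2 n.1.2⟩, (conj_mem_iff N x _).2 n.2⟩
      map_one' := Subtype.ext (Subtype.ext (by simp))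
      map_mul' := fun a b => Subtype.ext (Subtype.ext (by simp)) }
  have h3 : IsIrrCharacter (N.subgroupOf (Ce D)) fun n => (θ ∘ MulAut.conj x) ((n : Ce D) : G) :=
    Core.isIrr_comp κ (Finite.surjective_of_injective fun a b e => Subtype.ext (Subtype.ext
      ((MulAut.conj x).injective (congrArg (fun n : N.subgroupOf (Ce D) => ((n : Ce D) : G)) e)))) (thL C.le C.can).2
  have h4 := h.2.2
  rw [← ip_aut (MulAut.conj x), show φ ∘ MulAut.conj x = φ' from funext h2, ip_eq (jL_inj N D) hz] at h4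
  obtain ⟨c, h5⟩ := Clifford.exists_conj_of_constituents (N.subgroupOf (Ce D)) h'.1 (thL C.le C.can).2 h3
    ((ov_iff _ _ _).1 ((C.ov_iff' h'.1).1 h'.2.2)) (right_ne_zero_of_mul h4)
  have hcn : (c : G) ∈ Subgroup.normalizer (D : Set G) := Subgroup.centralizer_le_normalizer _ c.2
  have h6 : θ ∘ MulAut.conj x = θ ∘ MulAut.conj (c : G) := funext fun g => by
    by_cases hg : g ∈ (jL N D).range
    · obtain ⟨y, rfl⟩ := hg
      exact congrFun h5 y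
    · rw [hz g hg]
      exact (C.zL _ fun ⟨y, hy⟩ => hg ⟨⟨⟨g, (Cov.conj_mem_Ce hcn).1 (show MulAut.conj (c : G) g ∈ Ce D from hy ▸ y.1.2)⟩,
        (conj_mem_iff N c g).1 (show MulAut.conj (c : G) g ∈ N from hy ▸ y.2)⟩, rfl⟩).symm
  refine ⟨x * (c : G)⁻¹, mem_In.2 ⟨fun y => (Subgroup.mem_normalizer_iff.1 (mul_mem hn (inv_mem hcn)) y).symm,
    congrFun ((cj_eq_iff θ x c).1 h6)⟩, ?_⟩
  rw [cj_mul, show φ ∘ MulAut.conj x = φ' from funext h2, cj_fix (inv_mem (ce_le_In c' c.2))]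

theorem sum (C : CY p M N b D θ) (ψ : IrrCharacter G) : ∃ T : Finset (G → ℂ),
    (∀ φ, φ ∈ T ↔ φ ∈ Th D θ ∧ ∃ B, Can p M B D φ ∧ ψ ∈ B) ∧
      ∀ ν : G → ℂ, ν 1 = 1 → WN p N D θ ψ ν = ∑ φ ∈ T, W p D φ ψ ν := by
  classical
  have := Core.finite_irr (G := Ce D)
  have := Fintype.ofFinite (IrrCharacter (Ce D))
  have := Fintype.ofFinite (Ce D)
  have := Fintype.ofFinite (N.subgroupOf (Ce D))
  have e1 : ∀ ξ : IrrCharacter (Ce D), IsIrrCharacter (Ce D) fun c => extendByZero (Ce D) ξ c := fun ξ => by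
    rw [ext_coe]
    exact ξ.2
  have e2 : ∀ ξ : IrrCharacter (Ce D), (⟨_, e1 ξ⟩ : IrrCharacter (Ce D)) = ξ := fun ξ => Subtype.ext (ext_coe _)
  refine ⟨(Finset.univ.filter fun ξ : IrrCharacter (Ce D) => extendByZero (Ce D) ξ ∈ Th D θ ∧
    ∃ B, Can p M B D (extendByZero (Ce D) ξ) ∧ ψ ∈ B).image fun ξ : IrrCharacter (Ce D) => extendByZero (Ce D) ξ, fun φ => ?_,
    fun ν hν => ?_⟩
  · simp only [Finset.mem_image, Finset.mem_filter, Finset.mem_univ, true_and]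
    refine ⟨by rintro ⟨ξ, h1, rfl⟩; exact h1, fun h1 => ⟨⟨_, h1.1.1⟩, ?_, ext_res h1.1.2.1⟩⟩
    rw [show extendByZero (Ce D) ((⟨_, h1.1.1⟩ : IrrCharacter (Ce D)) : Ce D → ℂ) = φ from ext_res h1.1.2.1]
    exact h1
  · rw [Finset.sum_image fun ξ _ ξ' _ e => Subtype.ext (by rw [← ext_coe ξ.1, ← ext_coe ξ'.1, e]), Finset.sum_filter,
      WN, W_res C.le C.zero (fun g hg => zero_C C.le C.zero C.can hg) (irr_isClassFunction ψ.2)]
    refine Finset.sum_congr rfl fun ξ _ => ?_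
    by_cases h1 : Ov (N.subgroupOf (Ce D)) ξ (thL C.le C.can)
    · have h2 : extendByZero (Ce D) ξ ∈ Th D θ := ⟨e1 ξ, fun g hg => Core.extendByZero_of_notMem _ _ hg,
        (C.ov_iff' (e1 ξ)).2 (by rwa [e2])⟩
      have h3 : classInner (fun n : N.subgroupOf (Ce D) => (ξ : Ce D → ℂ) n) (fun n => θ ((n : Ce D) : G)) = 1 :=
        mult_one _ (cyc_sub N (Ce D) C.cyc) h1
      rw [h3, map_one, one_mul]
      split_ifs with h4
      · rfl
      · obtain ⟨B, h5⟩ := C.can_of h2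
        exact W_zero h5 C.card hν fun h6 => h4 ⟨h2, B, h5, h6⟩
    · have h3 : classInner (fun n : N.subgroupOf (Ce D) => (ξ : Ce D → ℂ) n) (fun n => θ ((n : Ce D) : G)) = 0 :=
        not_not.1 (mt (ov_iff (N.subgroupOf (Ce D)) ξ (thL C.le C.can)).2 h1)
      rw [h3, map_zero, zero_mul, if_neg fun h4 => h1 (e2 ξ ▸ (C.ov_iff' (e1 ξ)).1 h4.1.2.2)]

omit [Fact p.Prime] in
theorem shift (C : CY p M N b D θ) (h : φ ∈ Th D θ) (h' : φ' ∈ Th D θ) (c : Can p M B D φ) (c' : Can p M B' D φ')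
    {ψ : IrrCharacter G} (hψ : ψ ∈ B') : ∃ ψ' ∈ B, (fun n : N => (ψ' : G → ℂ) n) = (fun n : N => (ψ : G → ℂ) n) ∧
      ∀ ν, W p D φ ψ' ν = W p D φ' ψ ν := by
  obtain ⟨l, h1, rfl⟩ := C.tw h h'
  refine ⟨tl l ψ, can_unique (can_tl c' l (C.le.trans h1)) c ▸ ⟨ψ, hψ, rfl⟩, funext fun n => ?_,
    fun ν => W_tw l (C.le.trans h1)⟩
  rw [tl_apply, show l n = 1 from h1 n.2, Units.val_one, one_mul]

omit [Finite G] [Fact p.Prime] in
theorem card' (C : CY p M N b D θ) : Nat.card (D.subgroupOf N) = p :=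
  (Nat.card_congr (Subgroup.subgroupOfEquivOfLe C.le).toEquiv).trans C.card

omit [Fact p.Prime] in
/-- the restriction of a character over `χ` -/
theorem res (C : CY p M N b D θ) {ψ : IrrCharacter G} {χ : IrrCharacter N} (h : Ov N ψ χ) :
    ∃ S : Finset (IrrCharacter N), χ ∈ S ∧
      (∀ ε ∈ S, ∃ α ∈ LA (D.subgroupOf N) fun n : N => θ n, (ε : N → ℂ) = χ ∘ α) ∧
      (∀ (g : G) (ε : IrrCharacter N), (ε : N → ℂ) = χ ∘ MulAut.conjNormal g → ε ∈ S) ∧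
      ∀ ν : G → ℂ, WN p N D θ ψ ν = ∑ ε ∈ S, W p (D.subgroupOf N) (fun n => θ n) ε fun n => ν n := by
  classical
  have := Core.finite_irr (G := N)
  have := Fintype.ofFinite (IrrCharacter N)
  have := Fintype.ofFinite G
  have := Fintype.ofFinite N
  obtain ⟨c, h1, h2⟩ := CharDeep.CliffordCorr.exists_nat_coeffs (Clifford.isCharacter_restrict N (irr_isCharacter ψ.2))
  refine ⟨Finset.univ.filter fun ε => Ov N ψ ε, Finset.mem_filter.2 ⟨Finset.mem_univ _, h⟩, fun ε hε => ?_,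
    fun g ε hε => Finset.mem_filter.2 ⟨Finset.mem_univ _, ?_⟩, fun ν => ?_⟩
  · obtain ⟨g, h3⟩ := Clifford.exists_conj_of_constituents N ψ.2 χ.2 ε.2 ((ov_iff _ _ _).1 h)
      ((ov_iff _ _ _).1 (Finset.mem_filter.1 hε).2)
    obtain ⟨t, h4, h5⟩ := C.rep g
    exact ⟨_, (Reg.mem_In_iff C.le C.zero t).1 h4, h3.trans (h5 _ (irr_isClassFunction χ.2))⟩
  · rw [ov_iff, hε, Clifford.classInner_restrict_conjNormal (irr_isClassFunction ψ.2)]
    exact (ov_iff _ _ _).1 h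
  · rw [WN, h1, W_sum, Finset.sum_filter]
    refine Finset.sum_congr rfl fun ε _ => ?_
    rw [← h2]
    split_ifs with h3
    · rw [mult_one N C.cyc h3, one_mul]
    · rw [not_not.1 (mt (ov_iff _ _ _).2 h3), zero_mul]

theorem card_one {n : ℕ} {s s' : ℂ} (hs : s = 1 ∨ s = -1) (hs' : s' = 0 ∨ s' = 1 ∨ s' = -1) (h : n * s = s') :
    n ≤ 1 := by
  have h1 : ‖(n : ℂ) * s‖ = n := by rcases hs with rfl | rfl <;> simp
  have h2 : ‖s'‖ ≤ 1 := by rcases hs' with rfl | rfl | rfl <;> simp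
  rw [← h, h1] at h2
  exact_mod_cast h2

/-- **an invariant extension of `θ`**: the rows without zeros are invariant -/
theorem fixA (C : CY p M N b D θ) {η : G → ℂ} (h1 : IsIrrCharacter ↥(In D θ ⊓ N) fun x => η x)
    (h2 : ∀ c ∈ Ce D, c ∈ N → η c = θ c) (h3 : ∀ t ∈ In D θ, ∀ x ∈ In D θ, x ∈ N → η (t * x * t⁻¹) = η x)
    {χ : IrrCharacter N} (hχ : χ ∈ b) (hc : Con p (D.subgroupOf N) (fun n => θ n) χ) (g : G) :
    (χ : N → ℂ) ∘ MulAut.conjNormal g = χ := by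
  have := C.can.prime
  obtain ⟨ψ, hψ⟩ := H666.Clif.exists_ov N χ
  obtain ⟨S, a1, a2, a3, a4⟩ := C.res hψ
  obtain ⟨s, b1, b2, μ, b3, -⟩ := W_val C.can C.card' hχ
  have hν : NL D (extendByZero N μ) := (NL.sub C.le).1 (by rwa [ext_coe])
  generalize extendByZero N μ = ν at hν
  obtain ⟨T, c1, c2⟩ := C.sum ψ
  have e1 : WN p N D θ ψ ν = S.card * s := by
    rw [a4, Finset.sum_congr rfl (g := fun _ => s), Finset.sum_const, nsmul_eq_mul]
    intro ε hε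
    obtain ⟨α, d1, d2⟩ := a2 ε hε
    have d3 := ((NL.sub C.le).2 hν).iso α⁻¹ (inv_mem d1).1
    rw [d2, ← (b2 _ d3).resolve_left (hc _ d3), ← W_LA d1 (ν := _ ∘ _)]
    exact congrArg _ (funext fun x => by simp)
  have e2 : WN p N D θ ψ ν = 0 ∨ WN p N D θ ψ ν = 1 ∨ WN p N D θ ψ ν = -1 := by
    rw [c2 ν hν.2.1]
    rcases T.eq_empty_or_nonempty with rfl | ⟨φ, hφ⟩
    · exact Or.inl Finset.sum_empty
    obtain ⟨d1, B, d2, d3⟩ := (c1 φ).1 hφ
    have d4 : T = {φ} := Finset.eq_singleton_iff_unique_mem.2 ⟨hφ, fun φ' hφ' => by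
      obtain ⟨d5, B', d6, d7⟩ := (c1 φ').1 hφ'
      obtain rfl := isPBlock_eq_of_mem d2.hb d6.hb d3 d7
      obtain ⟨t, d8, rfl⟩ := C.adj d1 d5 d2 d6
      have d9 := over_inv C.cyc C.le C.zero C.can h1 h2 h3 ((C.ov_iff' d1.1).1 d1.2.2) d8
      rw [show extendByZero (Ce D) ((⟨_, d1.1⟩ : IrrCharacter (Ce D)) : Ce D → ℂ) = φ from ext_res d1.2.1] at d9
      exact cj_fix d9⟩
    obtain ⟨s', d5, d6, -⟩ := W_val d2 C.card d3
    rw [d4, Finset.sum_singleton]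
    rcases d6 ν hν with d7 | d7
    · exact Or.inl d7
    · exact Or.inr (d7 ▸ d5)
  exact congrArg Subtype.val (Finset.card_le_one.1 (card_one b1 e2 e1.symm) _
    (a3 g ⟨_, Clifford.isIrr_conjNormal χ.2 g⟩ rfl) _ a1)

theorem not_con (C : CY p M N b D θ) (hB : ∀ φ ∈ Th D θ, ∃ t ∈ In D θ, φ ∘ MulAut.conj t ≠ φ) {ψ : IrrCharacter G}
    {ν : G → ℂ} (hν : NL D ν) (h1 : WN p N D θ ψ ν = 1 ∨ WN p N D θ ψ ν = -1) (h : φ ∈ Th D θ) (c : Can p M B D φ)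
    (hψ : ψ ∈ B) : ¬ Con p D φ ψ := by
  intro hc
  have := C.can.prime
  obtain ⟨T, c1, c2⟩ := C.sum ψ
  obtain ⟨s, b1, b2, -⟩ := W_val c C.card hψ
  have e1 : WN p N D θ ψ ν = T.card * s := by
    rw [c2 ν hν.2.1, Finset.sum_congr rfl (g := fun _ => s), Finset.sum_const, nsmul_eq_mul]
    intro φ' hφ'
    obtain ⟨d5, B', d6, d7⟩ := (c1 φ').1 hφ'
    obtain rfl := isPBlock_eq_of_mem c.hb d6.hb hψ d7
    obtain ⟨t, d8, rfl⟩ := C.adj h d5 c d6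
    have d3 := hν.iso (MulAut.conj t⁻¹) (mem_In.1 (inv_mem d8)).1
    rw [← (b2 _ d3).resolve_left (hc _ d3), ← W_cj (irr_isClassFunction ψ.2) (mem_In.1 d8).1 (ν := _ ∘ _), ← cj_mul,
      inv_mul_cancel, cj_one]
  obtain ⟨t, d1, d2⟩ := hB φ h
  exact d2 (Finset.card_le_one.1 (card_one b1 (Or.inr h1) e1.symm) _
    ((c1 _).2 ⟨cj_mem h d1, B, can_cj c (mem_In.1 d1).1, hψ⟩) _ ((c1 _).2 ⟨h, B, c, hψ⟩))

theorem exists_mem (C : CY p M N b D θ) {ψ : IrrCharacter G} {ν : G → ℂ} (hν : NL D ν) (h1 : WN p N D θ ψ ν ≠ 0) :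
    ∃ φ ∈ Th D θ, ∃ B, Can p M B D φ ∧ ψ ∈ B ∧ W p D φ ψ ν ≠ 0 := by
  obtain ⟨T, c1, c2⟩ := C.sum ψ
  rw [c2 ν hν.2.1] at h1
  obtain ⟨φ, h2, h3⟩ := Finset.exists_ne_zero_of_sum_ne_zero h1
  obtain ⟨h4, B, h5, h6⟩ := (c1 φ).1 h2
  exact ⟨φ, h4, B, h5, h6, h3⟩

theorem res_eq (C : CY p M N b D θ) (hB : ∀ φ ∈ Th D θ, ∃ t ∈ In D θ, φ ∘ MulAut.conj t ≠ φ)
    {ψ ψ' : IrrCharacter G} (h1 : ∀ ν, NL D ν → WN p N D θ ψ ν = 1 ∨ WN p N D θ ψ ν = -1) {ν : G → ℂ} (hν : NL D ν)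
    (h2 : WN p N D θ ψ' ν = 1 ∨ WN p N D θ ψ' ν = -1) :
    (fun n : N => (ψ' : G → ℂ) n) = fun n : N => (ψ : G → ℂ) n := by
  obtain ⟨φ, a1, B, a2, a3, -⟩ := C.exists_mem hν (ne_zero_of h2)
  obtain ⟨s, b1, -, μ, b2, b3⟩ := W_val a2 C.card a3
  obtain ⟨φ', c1, B', c2, c3, c4⟩ := C.exists_mem b2 (ne_zero_of (h1 μ b2))
  obtain ⟨ψ1, d1, d2, d3⟩ := C.shift a1 c1 a2 c2 c3
  rw [← d2, W_uniq a2 C.card a3 d1 (C.not_con hB hν h2 a1 a2 a3)
    (C.not_con hB hν (by rw [WN, d2]; exact h1 ν hν) a1 a2 d1) b2 (b3 ▸ ne_zero_of b1) (d3 μ ▸ c4)]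

/-- **no invariant extension of `θ`** -/
theorem fixB (C : CY p M N b D θ) (hB : ∀ φ ∈ Th D θ, ∃ t ∈ In D θ, φ ∘ MulAut.conj t ≠ φ)
    {χ χ' : IrrCharacter N} (hχ : χ ∈ b) (hc : Con p (D.subgroupOf N) (fun n => θ n) χ)
    (hi : ∀ g : G, (χ : N → ℂ) ∘ MulAut.conjNormal g = χ) (hχ' : χ' ∈ b)
    (h : Con p (D.subgroupOf N) (fun n => θ n) χ' → ∀ g : G, (χ' : N → ℂ) ∘ MulAut.conjNormal g = χ') : χ' = χ := by
  have := Fintype.ofFinite G
  have := Fintype.ofFinite N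
  have key : ∀ {ε : IrrCharacter N} {ψ : IrrCharacter G}, Ov N ψ ε →
      (∀ g : G, (ε : N → ℂ) ∘ MulAut.conjNormal g = ε) → (fun n : N => (ψ : G → ℂ) n) = ε :=
    fun h1 h2 => funext (res_of_inv N C.cyc h1 fun g n => congrFun (h2 g) n)
  obtain ⟨ψ, hψ⟩ := H666.Clif.exists_ov N χ
  obtain ⟨ψ', hψ'⟩ := H666.Clif.exists_ov N χ'
  obtain ⟨s, a1, a2, -⟩ := W_val C.can C.card' hχ
  obtain ⟨s', b1, -, μ, b2, b3⟩ := W_val C.can C.card' hχ'
  have hν : NL D (extendByZero N μ) := (NL.sub C.le).1 (by rwa [ext_coe])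
  have e1 := C.res_eq hB (ψ := ψ) (ψ' := ψ') (fun ν hν => by
    have c1 := (NL.sub C.le).2 hν
    rwa [WN, key hψ hi, (a2 _ c1).resolve_left (hc _ c1)]) hν (by
    by_cases c1 : Con p (D.subgroupOf N) (fun n => θ n) χ'
    · rwa [WN, key hψ' (h c1), ext_coe, b3]
    · obtain ⟨S, d1, d2, -, d3⟩ := C.res hψ'
      rwa [d3, ext_coe, Finset.sum_eq_single_of_mem χ' d1, b3]
      intro ε hε hne
      obtain ⟨α, d4, d5⟩ := d2 ε hε
      by_contra d6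
      exact hne (W_uniq C.can C.card' (mem_Fn.1 (d5 ▸ (C.can.le_Stab d4 _).2 (mem_Fn.2 hχ'))) hχ'
        (d5 ▸ mt (Con.LA d4).1 c1) c1 b2 d6 (b3 ▸ ne_zero_of b1)))
  rw [ov_iff, e1, key hψ hi] at hψ'
  by_contra c1
  exact hψ' (Core.classInner_irr_ne χ.2 χ'.2 fun c2 => c1 (Subtype.ext c2.symm))

/-- an invariant character over `θ` gives an invariant extension of `θ` -/
theorem exists_ext (C : CY p M N b D θ) (h : φ ∈ Th D θ) (hi : ∀ t ∈ In D θ, φ ∘ MulAut.conj t = φ) :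
    ∃ η : G → ℂ, IsIrrCharacter ↥(In D θ ⊓ N) (fun x => η x) ∧ (∀ c ∈ Ce D, c ∈ N → η c = θ c) ∧
      ∀ t ∈ In D θ, ∀ x ∈ In D θ, η (t * x * t⁻¹) = η x := by
  obtain ⟨_, hc⟩ := cyc_Ce C.card (In_le_normalizer (D := D) (θ := θ))
  have hL : ∀ c ∈ Ce D, c ∈ N → c ∈ In D θ := fun c h1 h2 =>
    (Reg.mem_In_sub C.le C.zero ⟨c, h2⟩).2 (ce_le_In C.can ((mem_Ce_sub C.le).2 h1))
  let j : (Ce D).subgroupOf (In D θ) →* G := (In D θ).subtype.comp ((Ce D).subgroupOf (In D θ)).subtype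
  have hj : Function.Injective j := (In D θ).subtype_injective.comp (Subgroup.subtype_injective _)
  let K : Subgroup ((Ce D).subgroupOf (In D θ)) := N.comap j
  have := Fintype.ofFinite ((Ce D).subgroupOf (In D θ))
  have := Fintype.ofFinite K
  have hk : Function.Injective (j.comp K.subtype) := hj.comp K.subtype_injective
  have hz : ∀ g, g ∉ (j.comp K.subtype).range → θ g = 0 := fun g hg => C.zL g fun ⟨y, hy⟩ =>
    hg ⟨⟨⟨⟨y.1, hL _ y.1.2 y.2⟩, y.1.2⟩, y.2⟩, hy⟩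
  have hε : IsIrrCharacter K fun k => θ (j k) := Core.isIrr_comp
    (((j.comp K.subtype).codRestrict N fun k => k.2).codRestrict (Ce (D.subgroupOf N))
      fun k => (mem_Ce_sub C.le).2 k.1.2)
    (fun y => ⟨⟨⟨⟨y.1, hL _ ((mem_Ce_sub C.le).1 y.2) y.1.2⟩, (mem_Ce_sub C.le).1 y.2⟩, y.1.2⟩, rfl⟩) C.can.irr
  have e1 := C.ip_self h
  rw [ip_eq hk hz, ip_eq hk hz] at e1
  have hφ : IsCharacter ((Ce D).subgroupOf (In D θ)) fun x => φ (j x) :=
    Core.isCharacter_comp (j.codRestrict (Ce D) fun x => x.2) (irr_isCharacter h.1)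
  obtain ⟨ψ, ⟨a1, a4⟩, a3⟩ := mid' K (cyc_comap j N C.cyc) (ε := fun x => θ (j x)) hφ hε (fun g k _ => (mem_In.1 g.1.2).2 (j k))
    ((mul_left_cancel₀ Core.card_ne_zero_complex e1).trans (Core.classInner_irr_self hε))
  have a5 : ∀ t : In D θ, (ψ : _ → ℂ) ∘ MulAut.conjNormal t = ψ := fun t => by
    refine congrArg Subtype.val (a3 ⟨_, Clifford.isIrr_conjNormal ψ.2 t⟩ ⟨?_, fun k hk => ?_⟩)
    · rwa [show (fun x => φ (j x)) = (fun x => φ (j x)) ∘ MulAut.conjNormal t from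
        funext fun x => (congrFun (hi t t.2) (j x)).symm, Clifford.classInner_comp_mulEquiv]
    · exact (a4 (MulAut.conjNormal t k) ((conj_mem_iff N t _).2 hk)).trans ((mem_In.1 t.2).2 _)
  obtain ⟨f, b1, b2⟩ := S0886.result _ hc _ ψ.2 fun g n => congrFun (a5 g) n
  have b3 : ∀ c (h1 : c ∈ Ce D) (h2 : c ∈ N), extendByZero (In D θ) f c = θ c := fun c h1 h2 =>
    (Core.extendByZero_of_mem _ _ (hL c h1 h2)).trans ((b2 ⟨⟨c, hL c h1 h2⟩, h1⟩).trans (a4 ⟨⟨c, hL c h1 h2⟩, h1⟩ h2))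
  refine ⟨extendByZero (In D θ) f, irr_of_comp ((j.comp K.subtype).codRestrict (In D θ ⊓ N)
    fun k => Subgroup.mem_inf.2 ⟨k.1.1.2, k.2⟩) ?_ ?_, b3,
    fun t ht x hx => ?_⟩
  · rw [funext fun x : ↥(In D θ ⊓ N) => Core.extendByZero_of_mem (In D θ) f x.2.1]
    exact Core.isCharacter_comp (Subgroup.inclusion inf_le_left) (irr_isCharacter b1)
  · exact (funext fun k : K => (b3 _ k.1.2 k.2).symm) ▸ hε
  · rw [Core.extendByZero_of_mem _ _ hx, Core.extendByZero_of_mem _ _ (mul_mem (mul_mem ht hx) (inv_mem ht))]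
    exact irr_conj b1 ⟨x, hx⟩ ⟨t, ht⟩

end CY

end Cfsg.Agent.BH.S1
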