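import Cfsg.Agent.BH.Reg.A

/-!
# BH, box S1: equivariant bijections, the frame of the box, the local block (helper58)
-/

set_option autoImplicit false

namespace Cfsg.Agent.BH.S1

open Cfsg Cfsg.Agent Cfsg.Agent.Characters Cfsg.Agent.Blocks.Basic Cfsg.Agent.Blocks.Local
open Cfsg.Agent.TID.Red Cfsg.Agent.TO Cfsg.Agent.TO.Cov

section Eqv

variable {Y : Type} [Group Y]

/-- `σ` is an `H`-equivariant bijection from `A` onto `B` -/
def Eqv (H : Subgroup Y) (σ : (Y → ℂ) → (Y → ℂ)) (A B : Set (Y → ℂ)) : Prop :=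
  Set.BijOn σ A B ∧ ∀ f ∈ A, ∀ h ∈ H, σ (f ∘ MulAut.conj h) = σ f ∘ MulAut.conj h

/-- `A` is invariant under `H` -/
def Inv (H : Subgroup Y) (A : Set (Y → ℂ)) : Prop := ∀ f ∈ A, ∀ h ∈ H, f ∘ MulAut.conj h ∈ A

theorem cj_mul (f : Y → ℂ) (g h : Y) : f ∘ MulAut.conj (g * h) = (f ∘ MulAut.conj g) ∘ MulAut.conj h :=
  funext fun x => by simp [mul_assoc]

theorem cj_one (f : Y → ℂ) : f ∘ MulAut.conj (1 : Y) = f := funext fun x => by simp

theorem cj_inv (f : Y → ℂ) (g : Y) : (f ∘ MulAut.conj g) ∘ MulAut.conj g⁻¹ = f := by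
  rw [← cj_mul, mul_inv_cancel, cj_one]

theorem cj_eq_iff (f : Y → ℂ) (g h : Y) :
    f ∘ MulAut.conj g = f ∘ MulAut.conj h ↔ f ∘ MulAut.conj (g * h⁻¹) = f := by
  constructor
  · intro e
    rw [cj_mul, e, cj_inv]
  · intro e
    conv_rhs => rw [← e, ← cj_mul, inv_mul_cancel_right]

variable {H : Subgroup Y} {A B A₁ A₂ B₁ B₂ : Set (Y → ℂ)}

theorem Inv.diff (h1 : Inv H A) (h2 : Inv H B) : Inv H (A \ B) := fun f hf h hh =>
  ⟨h1 f hf.1 h hh, fun h3 => hf.2 (by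
    have h4 := h2 _ h3 h⁻¹ (inv_mem hh)
    rwa [cj_inv] at h4)⟩

/-- glue -/
theorem eqv_union {σ₁ σ₂ : (Y → ℂ) → (Y → ℂ)} (h1 : Eqv H σ₁ A₁ B₁) (h2 : Eqv H σ₂ A₂ B₂) (hA : Disjoint A₁ A₂)
    (hB : Disjoint B₁ B₂) (i1 : Inv H A₁) (i2 : Inv H A₂) : ∃ σ, Eqv H σ (A₁ ∪ A₂) (B₁ ∪ B₂) := by
  classical
  have n1 : ∀ f ∈ A₂, f ∉ A₁ := fun f hf h => Set.disjoint_left.1 hA h hf
  have e1 : Set.EqOn σ₁ (fun f => if f ∈ A₁ then σ₁ f else σ₂ f) A₁ := fun f hf => (if_pos hf).symm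
  have e2 : Set.EqOn σ₂ (fun f => if f ∈ A₁ then σ₁ f else σ₂ f) A₂ := fun f hf => (if_neg (n1 f hf)).symm
  generalize (fun f => if f ∈ A₁ then σ₁ f else σ₂ f) = σ at e1 e2
  refine ⟨σ, (h1.1.congr e1).union (h2.1.congr e2) ?_, ?_⟩
  · rintro f (hf | hf) g (hg | hg) e
    · exact (h1.1.congr e1).injOn hf hg e
    · exact absurd (e ▸ (h1.1.congr e1).mapsTo hf) fun h => Set.disjoint_left.1 hB h ((h2.1.congr e2).mapsTo hg)
    · exact absurd (e ▸ (h2.1.congr e2).mapsTo hf) fun h => Set.disjoint_left.1 hB ((h1.1.congr e1).mapsTo hg) h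
    · exact (h2.1.congr e2).injOn hf hg e
  · rintro f (hf | hf) h hh
    · rw [← e1 hf, ← e1 (i1 f hf h hh)]
      exact h1.2 f hf h hh
    · rw [← e2 hf, ← e2 (i2 f hf h hh)]
      exact h2.2 f hf h hh

/-- one orbit -/
theorem eqv_orbit {a b : Y → ℂ} (hab : ∀ h ∈ H, a ∘ MulAut.conj h = a ↔ b ∘ MulAut.conj h = b) :
    ∃ σ, Eqv H σ {f | ∃ h ∈ H, f = a ∘ MulAut.conj h} {f | ∃ h ∈ H, f = b ∘ MulAut.conj h} := by
  classical
  have key : ∀ g ∈ H, ∀ h ∈ H, a ∘ MulAut.conj g = a ∘ MulAut.conj h ↔ b ∘ MulAut.conj g = b ∘ MulAut.conj h :=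
    fun g hg h hh => by rw [cj_eq_iff, cj_eq_iff, hab _ (mul_mem hg (inv_mem hh))]
  let σ : (Y → ℂ) → (Y → ℂ) := fun f =>
    if hf : ∃ h ∈ H, f = a ∘ MulAut.conj h then b ∘ MulAut.conj hf.choose else f
  have hσ : ∀ h ∈ H, σ (a ∘ MulAut.conj h) = b ∘ MulAut.conj h := fun h hh => by
    have hf : ∃ g ∈ H, a ∘ MulAut.conj h = a ∘ MulAut.conj g := ⟨h, hh, rfl⟩
    exact (dif_pos hf).trans ((key _ hh _ hf.choose_spec.1).1 hf.choose_spec.2).symm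
  refine ⟨σ, ⟨?_, ?_, ?_⟩, ?_⟩
  · rintro _ ⟨h, hh, rfl⟩
    exact ⟨h, hh, hσ h hh⟩
  · rintro _ ⟨g, hg, rfl⟩ _ ⟨h, hh, rfl⟩ e
    rw [hσ g hg, hσ h hh] at e
    exact (key g hg h hh).2 e
  · rintro _ ⟨h, hh, rfl⟩
    exact ⟨_, ⟨h, hh, rfl⟩, hσ h hh⟩
  · rintro _ ⟨g, hg, rfl⟩ h hh
    rw [← cj_mul, hσ _ (mul_mem hg hh), hσ g hg, cj_mul]

theorem inv_orbit (a : Y → ℂ) : Inv H {f | ∃ h ∈ H, f = a ∘ MulAut.conj h} := by
  rintro _ ⟨g, hg, rfl⟩ h hh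
  exact ⟨g * h, mul_mem hg hh, (cj_mul a g h).symm⟩

/-- **the same stabiliser at all points** -/
theorem eqv_const (U : Y → Prop) (hA : A.Finite) (hB : B.Finite) (iA : Inv H A) (iB : Inv H B)
    (sA : ∀ f ∈ A, ∀ h ∈ H, f ∘ MulAut.conj h = f ↔ U h) (sB : ∀ f ∈ B, ∀ h ∈ H, f ∘ MulAut.conj h = f ↔ U h)
    (hc : A.ncard = B.ncard) : ∃ σ, Eqv H σ A B := by
  induction hn : A.ncard using Nat.strong_induction_on generalizing A B with
  | _ n ih =>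
    rcases A.eq_empty_or_nonempty with rfl | ⟨a, ha⟩
    · rw [Set.ncard_empty] at hc
      rw [(Set.ncard_eq_zero hB).1 hc.symm]
      exact ⟨id, Set.bijOn_empty _, fun _ h => h.elim⟩
    obtain ⟨b, hb⟩ : B.Nonempty := Set.nonempty_of_ncard_ne_zero (hc ▸ ((Set.ncard_pos hA).2 ⟨a, ha⟩).ne')
    obtain ⟨σ₁, h1⟩ := eqv_orbit (H := H) (a := a) (b := b) fun h hh => (sA a ha h hh).trans (sB b hb h hh).symm
    generalize ho : {f | ∃ h ∈ H, f = a ∘ MulAut.conj h} = O at h1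
    generalize hp : {f | ∃ h ∈ H, f = b ∘ MulAut.conj h} = P at h1
    have hO : O ⊆ A := by
      rw [← ho]
      rintro _ ⟨h, hh, rfl⟩
      exact iA a ha h hh
    have hP : P ⊆ B := by
      rw [← hp]
      rintro _ ⟨h, hh, rfl⟩
      exact iB b hb h hh
    have iO : Inv H O := ho ▸ inv_orbit a
    have iP : Inv H P := hp ▸ inv_orbit b
    have haO : a ∈ O := ho ▸ ⟨1, one_mem H, (cj_one a).symm⟩
    have e1 : O.ncard = P.ncard := by rw [← h1.1.image_eq, h1.1.injOn.ncard_image]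
    obtain ⟨σ₂, h2⟩ := ih (A \ O).ncard (hn ▸ Set.ncard_lt_ncard ⟨Set.sdiff_subset, fun h => (h ha).2 haO⟩ hA)
      hA.sdiff hB.sdiff (iA.diff iO) (iB.diff iP) (fun f hf => sA f hf.1) (fun f hf => sB f hf.1)
      (by rw [Set.ncard_sdiff hO (hA.subset hO), Set.ncard_sdiff hP (hB.subset hP), hc, e1]) rfl
    obtain ⟨σ, h3⟩ := eqv_union h1 h2 Set.disjoint_sdiff_right Set.disjoint_sdiff_right iO (iA.diff iO)
    rw [Set.union_sdiff_cancel hO, Set.union_sdiff_cancel hP] at h3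
    exact ⟨σ, h3⟩

end Eqv

section Frame

variable {p : ℕ} {M : Ideal AlgInt} {Y : Type} [Group Y]

/-- the members of `b`, extended by zero -/
def XG (S : Subgroup Y) (b : Set (IrrCharacter S)) : Set (Y → ℂ) :=
  {f | (fun n : S => f n) ∈ Fn b ∧ ∀ y, y ∉ S → f y = 0}

/-- the members of the local block, extended by zero -/
abbrev XL [Finite Y] (M : Ideal AlgInt) (S Q : Subgroup Y) (θ : Y → ℂ) : Set (Y → ℂ) :=
  XG (S ⊓ In Q θ) (LocB M S Q θ)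

variable {S : Subgroup Y} {b : Set (IrrCharacter S)} {Q : Subgroup Y} {θ : Y → ℂ}

theorem ext_mem {φ : S → ℂ} (h : φ ∈ Fn b) : extendByZero S φ ∈ XG S b :=
  ⟨by rwa [ext_coe], fun _ hy => Core.extendByZero_of_notMem _ _ hy⟩

theorem ext_res {f : Y → ℂ} (h : ∀ y, y ∉ S → f y = 0) : extendByZero S (fun n : S => f n) = f := funext fun y => by
  by_cases hy : y ∈ S
  · exact Core.extendByZero_of_mem _ _ hy
  · rw [Core.extendByZero_of_notMem _ _ hy, h y hy]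

/-- restriction is a bijection -/
theorem bijOn_res : Set.BijOn (fun (f : Y → ℂ) (n : S) => f n) (XG S b) (Fn b) :=
  ⟨fun _ hf => hf.1, fun f hf g hg e => by
    rw [← ext_res hf.2, ← ext_res hg.2]
    exact congrArg (extendByZero S) e, fun φ h => ⟨_, ext_mem h, ext_coe φ⟩⟩

theorem finite_Fn {K : Type} [Group K] [Finite K] (c : Set (IrrCharacter K)) : (Fn c).Finite := by
  have := Core.finite_irr (G := K)
  exact (Set.toFinite c).image _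

theorem finite_XG [Finite Y] : (XG S b).Finite := (finite_Fn b).of_injOn bijOn_res.mapsTo bijOn_res.injOn

theorem ncard_XG : (XG S b).ncard = b.ncard := by
  rw [← bijOn_res.injOn.ncard_image, bijOn_res.image_eq, Fn, Set.ncard_image_of_injective _ Subtype.val_injective]

theorem res_cj [S.Normal] (χ : Y → ℂ) (h : Y) :
    (fun n : S => (χ ∘ MulAut.conj h) n) = (fun n : S => χ n) ∘ MulAut.conjNormal h := rfl

theorem ext_cj [S.Normal] (φ : S → ℂ) (h : Y) :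
    extendByZero S (φ ∘ MulAut.conjNormal h) = extendByZero S φ ∘ MulAut.conj h := funext fun y => by
  by_cases hy : y ∈ S
  · rw [Core.extendByZero_of_mem _ _ hy, Function.comp_apply, Function.comp_apply, MulAut.conj_apply,
      Core.extendByZero_of_mem _ _ ((conj_mem_iff S h y).2 hy)]
    rfl
  · rw [Core.extendByZero_of_notMem _ _ hy, Function.comp_apply, MulAut.conj_apply,
      Core.extendByZero_of_notMem _ _ fun h1 => hy ((conj_mem_iff S h y).1 h1)]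

variable [Finite Y] [Fact p.Prime]

theorem inv_XG [S.Normal] (R : Root p M S b Q θ) (hT : S ⊔ In Q θ = ⊤) (H : Subgroup Y) : Inv H (XG S b) :=
  fun _ hf h _ => ⟨(stab_top R.can hT h _).2 hf.1, fun y hy => hf.2 _ fun h1 => hy ((conj_mem_iff S h y).1 h1)⟩

/-- **the frame of the box** -/
theorem frame [S.Normal] (R : Root p M S b Q θ) (hT : S ⊔ In Q θ = ⊤) {σ : (Y → ℂ) → (Y → ℂ)}
    (hσ : Eqv (In Q θ) σ (XG S b) (XL M S Q θ))
    (hm : ∀ χ ∈ XG S b, HasMatch p M (In ⊤ χ) S (In Q θ) χ (σ χ)) :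
    ∃ τ : (Y → ℂ) → (Y → ℂ),
      (∀ χ : Y → ℂ, ∀ h ∈ In Q θ, τ (χ ∘ MulAut.conj h) = τ χ ∘ MulAut.conj h) ∧
      (∀ χ : Y → ℂ, ∀ y, y ∉ S ⊓ In Q θ → τ χ y = 0) ∧
      (∀ χ χ' : Y → ℂ, (fun n : S => χ n) ∈ Fn b → (fun n : S => χ' n) ∈ Fn b → τ χ = τ χ' →
        ∀ n : S, χ n = χ' n) ∧
      (∀ η ∈ LocB M S Q θ, ∃ χ : Y → ℂ, (fun n : S => χ n) ∈ Fn b ∧ (∀ y, y ∉ S → χ y = 0) ∧
        ∀ n : (S ⊓ In Q θ : Subgroup Y), τ χ n = η.1 n) ∧
      ∀ χ : Y → ℂ, (fun n : S => χ n) ∈ Fn b → (∀ y, y ∉ S → χ y = 0) →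
        (fun n : (S ⊓ In Q θ : Subgroup Y) => τ χ n) ∈ Fn (LocB M S Q θ) ∧
        HasMatch p M (In ⊤ χ) S (In Q θ) χ (τ χ) := by
  classical
  let τ : (Y → ℂ) → (Y → ℂ) := fun χ =>
    if (fun n : S => χ n) ∈ Fn b then σ (extendByZero S fun n : S => χ n) else 0
  have h1 : ∀ χ : Y → ℂ, (fun n : S => χ n) ∈ Fn b → τ χ = σ (extendByZero S fun n : S => χ n) :=
    fun χ h => if_pos h
  have h2 : ∀ χ : Y → ℂ, (fun n : S => χ n) ∉ Fn b → τ χ = 0 := fun χ h => if_neg h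
  have h3 : ∀ χ ∈ XG S b, τ χ = σ χ := fun χ h => by rw [h1 χ h.1, ext_res h.2]
  refine ⟨τ, fun χ h hh => ?_, fun χ y hy => ?_, fun χ χ' a1 a2 e n => ?_, fun η hη => ?_, fun χ a1 a2 => ?_⟩
  · have h4 := stab_top R.can hT h fun n : S => χ n
    by_cases hχ : (fun n : S => χ n) ∈ Fn b
    · rw [h1 χ hχ, h1 _ (h4.2 hχ), res_cj, ext_cj, hσ.2 _ (ext_mem hχ) h hh]
    · rw [h2 χ hχ, h2 _ fun h5 => hχ (h4.1 h5)]
      rfl
  · by_cases hχ : (fun n : S => χ n) ∈ Fn b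
    · rw [h1 χ hχ]
      exact (hσ.1.mapsTo (ext_mem hχ)).2 y hy
    · rw [h2 χ hχ]
      rfl
  · rw [h1 χ a1, h1 χ' a2] at e
    have h4 := congrFun (hσ.1.injOn (ext_mem a1) (ext_mem a2) e) n
    rwa [Core.extendByZero_of_mem _ _ n.2, Core.extendByZero_of_mem _ _ n.2] at h4
  · obtain ⟨χ, h4, h5⟩ := hσ.1.surjOn (ext_mem (mem_Fn.2 hη))
    refine ⟨χ, h4.1, h4.2, fun n => ?_⟩
    rw [h3 χ h4, h5]
    exact Core.extendByZero_of_mem _ _ n.2
  · rw [h3 χ ⟨a1, a2⟩]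
    exact ⟨(hσ.1.mapsTo ⟨a1, a2⟩).1, hm χ ⟨a1, a2⟩⟩

end Frame

section Loc

variable {p : ℕ} [Fact p.Prime] {M : Ideal AlgInt}

omit [Fact p.Prime] in
/-- a central defect group -/
theorem can_self {X : Type} [Group X] [Finite X] (hM : IsPModular p M) {D : Subgroup X} {θ : X → ℂ}
    (hc : ∀ x, x ∈ Ce D) (hθ : IsIrrCharacter X θ) (hD : IsDefectGroup p M (blockOf M θ) D)
    (ht : ∀ d ∈ D, θ d = θ 1) : Can p M (blockOf M θ) D θ := by
  have := isPrime_of_isPModular hM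
  have h1 : IsIrrCharacter (Ce D) fun c => θ c := Core.isIrr_comp (Ce D).subtype (fun x => ⟨⟨x, hc x⟩, rfl⟩) hθ
  refine ⟨hM, hD, fun x _ => hc x, h1, ind_of h1 (fun g hg => absurd (hc g) hg) (isPBlock_blockOf ⟨θ, hθ⟩)
    (mem_blockOf_self ⟨θ, hθ⟩) fun g => ?_, fun g hg => absurd (hc g) hg, ht⟩
  rw [← cc_eq hθ, sub_self]
  exact memLocalIdeal_zero

/-- a normal defect group and an invariant root -/
theorem can_normal {X : Type} [Group X] [Finite X] (hM : IsPModular p M) {D N : Subgroup X} (hDn : D.Normal)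
    (hN : N = Ce D) {θ : X → ℂ} (hab : D ≤ N) (hθ : IsIrrCharacter N fun n => θ n) (h0 : ∀ g, g ∉ N → θ g = 0)
    (hi : ∀ g x, θ (g * x * g⁻¹) = θ x) (ht : ∀ d ∈ D, θ d = θ 1) (hx : ¬ p ∣ N.index)
    (hD : IsDefectGroup p M (blockOf M fun n : N => θ n) (D.subgroupOf N)) :
    Can p M {η | ∃ ξ ∈ blockOf M (fun n : N => θ n), Ov N.subtype η.1 ξ.1} D θ := by
  subst hN
  have := isPrime_of_isPModular hM
  have := Fintype.ofFinite X
  have := Fintype.ofFinite (Ce D)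
  have h1 := can_self hM (D := D.subgroupOf (Ce D)) (fun x => (mem_Ce_sub hab).2 x.2) hθ hD fun d hd => ht d hd
  obtain ⟨B, h2, h3⟩ := exists_can hx hab h0 h1 (χ := ⟨_, hθ⟩) (ov_of_res fun _ => rfl)
  rw [show extendByZero (Ce D) ((⟨_, hθ⟩ : IrrCharacter (Ce D)) : Ce D → ℂ) = θ from ext_res h0] at h2
  have hc : IsPBlock M (blockOf M fun n : Ce D => θ n) := isPBlock_blockOf (⟨_, hθ⟩ : IrrCharacter (Ce D))
  have hm : (⟨_, hθ⟩ : IrrCharacter (Ce D)) ∈ blockOf M fun n : Ce D => θ n :=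
    mem_blockOf_self (⟨_, hθ⟩ : IrrCharacter (Ce D))
  have hs : ∀ g : X, MulAut.conjNormal g ∈ Stab (blockOf M fun n : Ce D => θ n) := fun g =>
    h1.le_Stab ⟨fun x => conj_mem_iff D g x, fun x => hi g x⟩
  suffices e : {η | ∃ ξ ∈ blockOf M (fun n : Ce D => θ n), Ov (Ce D).subtype η.1 ξ.1} = B by rwa [e]
  ext η
  constructor
  · rintro ⟨ξ, h4, h5⟩
    obtain ⟨χ, hχ⟩ := isPBlock_nonempty h2.hb
    refine isPBlock_mem_of_sameBlock h2.hb hχ fun g => ?_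
    by_cases hg : g ∈ Ce D
    · have a1 := (S0965.result p M hM (Ce D) B h2.hb _ hc).1 h3 χ hχ _ hm ⟨g, hg⟩
      have a0 : classInner (fun n : Ce D => (η : X → ℂ) n) (ξ : Ce D → ℂ) ≠ 0 := (ov_iff (Ce D).subtype η.1 ξ.1).1 h5
      have a2 := (S0965.result p M hM (Ce D) _ (isPBlock_blockOf η) _ hc).1
        ⟨η, mem_blockOf_self η, ξ, h4, a0⟩ η (mem_blockOf_self η) _ hm ⟨g, hg⟩
      exact memLocalIdeal_sub_trans a1 (memLocalIdeal_sub_comm a2)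
    · exact memLocalIdeal_sub (Reg.omega_off hM h2.hb hDn h2.pg hχ hg)
        (Reg.omega_off hM (isPBlock_blockOf η) hDn h2.pg (mem_blockOf_self η) hg)
  · intro hη
    obtain ⟨ε, hε⟩ := exists_under (Ce D) η.2
    obtain ⟨χ0, a1, ψ0, a2, a3⟩ := h3
    obtain ⟨g, ψ, a4, a5⟩ := S0964.result p M hM _ B h2.hb _ hc χ0 a1 ψ0 a2 a3 η hη ε hε
    refine ⟨ε, mem_Fn.1 ?_, (ov_iff _ _ _).2 hε⟩
    rw [show (ε : Ce D → ℂ) = (ψ : Ce D → ℂ) ∘ MulAut.conjNormal g from funext a5]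
    exact (hs g _).2 (mem_Fn.2 a4)

variable {Y : Type} [Group Y] [Finite Y] {S : Subgroup Y} [S.Normal] {b : Set (IrrCharacter S)} {Q : Subgroup Y}
  {θ : Y → ℂ}

theorem le_I (R : Root p M S b Q θ) : Q ≤ S ⊓ In Q θ := le_inf R.le (Reg.le_In R)

omit [Finite Y] [Fact p.Prime] in
/-- the inertial index in terms of subgroups of `Y` -/
theorem idx_eq (R : Root p M S b Q θ) :
    (Ce (Q.subgroupOf S)).relIndex (In (Q.subgroupOf S) fun n : S => θ n) = (Ce Q).relIndex (S ⊓ In Q θ) := by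
  have h1 : Ce (Q.subgroupOf S) = (Ce Q).subgroupOf S := Subgroup.ext fun _ => mem_Ce_sub R.le
  have h2 : In (Q.subgroupOf S) (fun n : S => θ n) = (S ⊓ In Q θ).subgroupOf S := Subgroup.ext fun n =>
    ⟨fun h => ⟨n.2, (Reg.mem_In_sub R.le R.zero n).2 h⟩, fun h => (Reg.mem_In_sub R.le R.zero n).1 h.2⟩
  rw [h1, h2, Subgroup.relIndex_subgroupOf inf_le_left]

/-- **the local block** -/
theorem locB_can (R : Root p M S b Q θ) :
    Can p M (LocB M S Q θ) (Q.subgroupOf (S ⊓ In Q θ)) fun x : (S ⊓ In Q θ : Subgroup Y) => θ x := by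
  have hQ := le_I R
  have hz := fun g => zero_C (g := g) R.le R.zero R.can
  let e : Ce (Q.subgroupOf S) ≃* (Ce Q).subgroupOf (S ⊓ In Q θ) :=
    { toFun := fun c => ⟨⟨(c : S), (c : S).2, Reg.mem_In_ce R c⟩, (mem_Ce_sub R.le).1 c.2⟩
      invFun := fun x => ⟨⟨(x : (S ⊓ In Q θ : Subgroup Y)), x.1.2.1⟩, (mem_Ce_sub R.le).2 x.2⟩
      left_inv := fun _ => rfl
      right_inv := fun _ => rfl
      map_mul' := fun _ _ => rfl }
  have h1 := H649.isDefectGroup_blkMap (e := e) R.can.hdef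
  rw [H649.blkMap_blockOf] at h1
  have h2 : ((Q.subgroupOf S).subgroupOf (Ce (Q.subgroupOf S))).map e.toMonoidHom =
      (Q.subgroupOf (S ⊓ In Q θ)).subgroupOf ((Ce Q).subgroupOf (S ⊓ In Q θ)) := by
    ext x
    exact ⟨by rintro ⟨y, hy, rfl⟩; exact hy, fun hx => ⟨e.symm x, hx, e.apply_symm_apply x⟩⟩
  rw [h2] at h1
  refine can_normal R.can.hM ⟨fun x hx g => (g.2.2.1 x).2 hx⟩ (Subgroup.ext fun _ => (mem_Ce_sub hQ).symm)
    (θ := fun x : (S ⊓ In Q θ : Subgroup Y) => θ x) (fun x hx => ab_D R.le R.can hx)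
    (Core.isIrr_comp e.symm.toMonoidHom e.symm.surjective R.can.irr) (fun g hg => hz g hg)
    (fun g x => g.2.2.2 x) (fun d hd => R.can.triv ⟨d, R.le hd⟩ hd) ?_ h1
  have h3 := R.can.idx
  rwa [idx_eq R] at h3

omit [Finite Y] [Fact p.Prime] [S.Normal] in
theorem In_loc : In (Q.subgroupOf (S ⊓ In Q θ)) (fun x : (S ⊓ In Q θ : Subgroup Y) => θ x) = ⊤ :=
  top_le_iff.1 fun g _ => ⟨fun x => g.2.2.1 x, fun x => g.2.2.2 x⟩

omit [Finite Y] [Fact p.Prime] in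
/-- conjugation by `h ∈ H` on `S ⊓ H` -/
def cjI (S Q : Subgroup Y) [S.Normal] (θ : Y → ℂ) : In Q θ →* MulAut (S ⊓ In Q θ : Subgroup Y) :=
  (S ⊓ In Q θ).normalizerMonoidHom.comp (Subgroup.inclusion fun h hh => Subgroup.mem_normalizer_iff.2 fun x => by
    rw [Subgroup.mem_inf, Subgroup.mem_inf, conj_mem_iff, Subgroup.mul_mem_cancel_right _ (inv_mem hh),
      Subgroup.mul_mem_cancel_left _ hh])

omit [Finite Y] [Fact p.Prime] in
theorem cjI_coe (h : In Q θ) (x : (S ⊓ In Q θ : Subgroup Y)) : ((cjI S Q θ h x : (S ⊓ In Q θ : Subgroup Y)) : Y) =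
    h * x * (h : Y)⁻¹ := rfl

omit [Finite Y] [Fact p.Prime] in
theorem cjI_mem (h : In Q θ) :
    cjI S Q θ h ∈ LA (Q.subgroupOf (S ⊓ In Q θ)) fun x : (S ⊓ In Q θ : Subgroup Y) => θ x :=
  ⟨fun x => h.2.1 x, fun x => h.2.2 x⟩

theorem inv_XL (R : Root p M S b Q θ) : Inv (In Q θ) (XL M S Q θ) := fun f hf h hh =>
  ⟨((locB_can R).le_Stab (cjI_mem ⟨h, hh⟩) _).2 hf.1, fun y hy => hf.2 _ fun h1 => hy (by
    rwa [MulAut.conj_apply, Subgroup.mem_inf, conj_mem_iff, Subgroup.mul_mem_cancel_right _ (inv_mem hh),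
      Subgroup.mul_mem_cancel_left _ hh] at h1)⟩

end Loc

end Cfsg.Agent.BH.S1
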