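import Cfsg.Agent.BH.S1.Ext
import Cfsg.Agent.BH.Reg.B

/-!
# BH, box S1: the action on the extensions of the root and on the defect group (helper58)
-/

set_option autoImplicit false

namespace Cfsg.Agent.BH.S1

open Cfsg Cfsg.Agent Cfsg.Agent.Characters Cfsg.Agent.Blocks.Basic Cfsg.Agent.Blocks.Local
open Cfsg.Agent.TO Cfsg.Agent.TO.Cov
open Cfsg.Agent.H666.Clif (tl tl_apply Ov ov_iff exists_tl)

variable {K : Type} [Group K] {Q : Subgroup K} {θ η η' : K → ℂ} {α β : MulAut K}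

/-- `α` fixes the extension `η` -/
def FE (Q : Subgroup K) (θ η : K → ℂ) (α : MulAut K) : Prop := ∀ x ∈ In Q θ, η (α x) = η x

/-- `α` acts on `Q` as an element of the inertia group -/
def Inr (Q : Subgroup K) (θ : K → ℂ) (α : MulAut K) : Prop := ∃ t ∈ In Q θ, ∀ u ∈ Q, α u = t * u * t⁻¹

/-- the action on `Q` -/
def resQ (Q : Subgroup K) (θ : K → ℂ) : LA Q θ →* MulAut Q where
  toFun α :=
    { toFun := fun u => ⟨α.1 u, (α.2.1 u).2 u.2⟩
      invFun := fun u => ⟨α.1⁻¹ u, ((inv_mem α.2).1 u).2 u.2⟩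
      left_inv := fun u => Subtype.ext (α.1.symm_apply_apply u)
      right_inv := fun u => Subtype.ext (α.1.apply_symm_apply u)
      map_mul' := fun a b => Subtype.ext (map_mul α.1 (a : K) b) }
  map_one' := rfl
  map_mul' _ _ := rfl

/-- conjugation -/
def cjL (Q : Subgroup K) (θ : K → ℂ) : In Q θ →* LA Q θ :=
  ((MulAut.conj : K →* MulAut K).comp (In Q θ).subtype).codRestrict _ fun x => x.2

theorem resQ_eq {α β : LA Q θ} : resQ Q θ α = resQ Q θ β ↔ ∀ u ∈ Q, α.1 u = β.1 u :=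
  ⟨fun h u hu => congrArg Subtype.val (DFunLike.congr_fun h (⟨u, hu⟩ : Q)),
    fun h => MulEquiv.ext fun u => Subtype.ext (h u u.2)⟩

theorem ker_cj : ((resQ Q θ).comp (cjL Q θ)).ker = (Ce Q).subgroupOf (In Q θ) := Subgroup.ext fun x => by
  rw [MonoidHom.mem_ker, MonoidHom.comp_apply, ← map_one (resQ Q θ), resQ_eq, Subgroup.mem_subgroupOf, mem_Ce]
  exact forall₂_congr fun u _ => mul_inv_eq_iff_eq_mul.trans eq_comm

theorem LA_iso {K' : Type} [Group K'] (e : K ≃* K') {E : Subgroup K'} {θ' : K' → ℂ} {α' : MulAut K'}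
    (h1 : ∀ g, e g ∈ E ↔ g ∈ Q) (h2 : ∀ g, θ' (e g) = θ g) (h3 : ∀ g, α' (e g) = e (α g)) :
    α' ∈ LA E θ' ↔ α ∈ LA Q θ := by
  rw [mem_LA, mem_LA, e.surjective.forall, e.surjective.forall]
  simp only [h1, h2, h3]

theorem LA_Ce (h : α ∈ LA Q θ) (x : K) : α x ∈ Ce Q ↔ x ∈ Ce Q := by
  rw [mem_Ce, mem_Ce, α.surjective.forall]
  simp only [h.1, ← map_mul, α.injective.eq_iff]

/-- the action on the inertia group -/
def resI (h : α ∈ LA Q θ) : In Q θ →* In Q θ :=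
  (α.toMonoidHom.comp (In Q θ).subtype).codRestrict _ fun x => Cov.LA_In h x.2

theorem ext_LA (h : Ext Q θ (In Q θ) η) (hα : α ∈ LA Q θ) : Ext Q θ (In Q θ) (η ∘ α) :=
  ⟨h.le, Core.isIrr_comp (resI hα)
    (fun y => ⟨⟨α⁻¹ y, Cov.LA_In (inv_mem hα) y.2⟩, Subtype.ext (α.apply_symm_apply y)⟩) h.irr,
    fun c hc => (h.ext _ ((LA_Ce hα c).2 hc)).trans (hα.2 c)⟩

theorem FE.pow (h : FE Q θ η α) (hα : α ∈ LA Q θ) (k : ℕ) : FE Q θ η (α ^ k) := by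
  induction k with
  | zero => exact fun _ _ => rfl
  | succ k ih => exact fun x hx => by rw [pow_succ, MulAut.mul_apply, ih _ (Cov.LA_In hα hx), h x hx]

theorem gen {J A : Type} [Group J] [Finite J] [Group A] (f : J →* A) (hc : IsCyclic f.range) :
    ∃ y, ∀ h, ∃ j : ℕ, h * (y ^ j)⁻¹ ∈ f.ker := by
  have : Finite f.range := Finite.of_surjective _ f.rangeRestrict_surjective
  obtain ⟨⟨_, y, rfl⟩, hg⟩ := hc.exists_monoid_generator
  refine ⟨y, fun h => ?_⟩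
  obtain ⟨j, hj⟩ := hg ⟨f h, h, rfl⟩
  exact ⟨j, by rw [MonoidHom.mem_ker, map_mul, map_inv, map_pow, mul_inv_eq_one, ← show f y ^ j = f h from
    congrArg Subtype.val hj]⟩

variable {p : ℕ} [hp : Fact p.Prime]

theorem aut_cyc (hQ : Nat.card Q = p) : IsCyclic (MulAut Q) := by
  have hc : IsCyclic Q := isCyclic_of_prime_card hQ
  have h1 : IsCyclic (ZMod (Nat.card Q))ˣ := by rw [hQ]; exact ZMod.isCyclic_units_prime hp.out
  exact (MulEquiv.isCyclic (IsCyclic.mulAutMulEquiv Q)).2 h1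

theorem comm_Ce (hQ : Nat.card Q = p) (hα : α ∈ LA Q θ) (x : In Q θ) :
    resI hα x * x⁻¹ ∈ (Ce Q).subgroupOf (In Q θ) := by
  have := aut_cyc hQ
  have e : cjL Q θ (resI hα x) = ⟨α, hα⟩ * cjL Q θ x * (⟨α, hα⟩ : LA Q θ)⁻¹ :=
    Subtype.ext (MulEquiv.ext fun y => show α x * y * (α x)⁻¹ = α (x * α⁻¹ y * (x : K)⁻¹) by simp)
  rw [← ker_cj, MonoidHom.mem_ker, map_mul, map_inv, mul_inv_eq_one, MonoidHom.comp_apply, MonoidHom.comp_apply, e,
    map_mul, map_mul, map_inv, mul_inv_eq_iff_eq_mul]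
  exact (IsCyclic.commGroup (α := MulAut Q)).mul_comm _ _

theorem lin_LA (hQ : Nat.card Q = p) (hα : α ∈ LA Q θ) {l : In Q θ →* ℂˣ}
    (hl : ∀ x ∈ (Ce Q).subgroupOf (In Q θ), l x = 1) (x : In Q θ) : l (resI hα x) = l x := by
  rw [← mul_inv_eq_one, ← map_inv, ← map_mul]
  exact hl _ (comm_Ce hQ hα x)

variable [Finite K] {M : Ideal AlgInt} {b : Set (IrrCharacter K)}

theorem aut_card (hQ : Nat.card Q = p) : Nat.card (MulAut Q) + 1 = p := by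
  have hc : IsCyclic Q := isCyclic_of_prime_card hQ
  rw [IsCyclic.card_mulAut, hQ, Nat.totient_prime hp.out, Nat.sub_add_cancel hp.out.one_le]

theorem inr_of (hQ : Nat.card Q = p) (he : (Ce Q).relIndex (In Q θ) + 1 = p) (hα : α ∈ LA Q θ) : Inr Q θ α := by
  have h1 : ((resQ Q θ).comp (cjL Q θ)).range = ⊤ := by
    rw [← Subgroup.card_eq_iff_eq_top, ← Subgroup.index_ker, ker_cj]
    exact Nat.add_right_cancel (he.trans (aut_card hQ).symm)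
  obtain ⟨t, ht⟩ : resQ Q θ ⟨α, hα⟩ ∈ ((resQ Q θ).comp (cjL Q θ)).range := h1 ▸ Subgroup.mem_top _
  exact ⟨t, t.2, resQ_eq.1 ht.symm⟩

omit hp in
theorem eq_one_of {A : Type} [Group A] {x : A} {k n e : ℕ} (h1 : x ^ p ^ k = 1) (h2 : x ^ e = 1)
    (h3 : e * n + 1 = p) : x = 1 := by
  have h4 : x ^ p = x := by rw [← h3, pow_succ, pow_mul, h2, one_pow, one_mul]
  rw [← h1]
  clear h1
  induction k with
  | zero => rw [pow_zero, pow_one]
  | succ k ih => rw [pow_succ, pow_mul, ← ih, h4]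

theorem cent_of_p (hQ : Nat.card Q = p) (hα : α ∈ LA Q θ) (ho : PElt p α) : ∀ u ∈ Q, α u = u := by
  obtain ⟨k, hk⟩ := ho
  refine (resQ_eq (α := ⟨α, hα⟩) (β := 1)).1 ((eq_one_of (k := k) (n := 1) ?_ pow_card_eq_one'
    (by rw [mul_one, aut_card hQ])).trans (map_one _).symm)
  rw [← map_pow, show (⟨α, hα⟩ : LA Q θ) ^ p ^ k = 1 from Subtype.ext (hk ▸ pow_orderOf_eq_one α), map_one]

omit [Finite K] hp in
theorem irr_C (h : Can p M b Q θ) : IsIrrCharacter ((Ce Q).subgroupOf (In Q θ)) fun c => θ ((c : In Q θ) : K) :=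
  Core.isIrr_comp (Subgroup.subgroupOfEquivOfLe (ce_le_In h)).toMonoidHom
    (Subgroup.subgroupOfEquivOfLe (ce_le_In h)).surjective h.irr

theorem exists_Ext (h : Can p M b Q θ) (hQ : Nat.card Q = p) : ∃ η, Ext Q θ (In Q θ) η := by
  obtain ⟨_, hc⟩ := cyc_Ce hQ (In_le_normalizer (D := Q) (θ := θ))
  obtain ⟨f, h1, h2⟩ := S0886.result _ hc _ (irr_C h) fun g n => (mem_In.1 g.2).2 _
  exact ⟨extendByZero _ f, ce_le_In h, by rwa [ext_coe], fun c h3 =>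
    (Core.extendByZero_of_mem _ _ (ce_le_In h h3)).trans (h2 ⟨⟨c, ce_le_In h h3⟩, h3⟩)⟩

theorem ext_tw (h : Can p M b Q θ) (hQ : Nat.card Q = p) (h1 : Ext Q θ (In Q θ) η) (h2 : Ext Q θ (In Q θ) η') :
    ∃ l : In Q θ →* ℂˣ, (∀ x ∈ (Ce Q).subgroupOf (In Q θ), l x = 1) ∧ ∀ x : In Q θ, η' x = l x * η x := by
  obtain ⟨_, hc⟩ := cyc_Ce hQ (In_le_normalizer (D := Q) (θ := θ))
  obtain ⟨l, a1, a2⟩ := exists_tl _ hc (ε := ⟨_, irr_C h⟩) (ov_of_res (χ := ⟨_, h1.irr⟩) fun n => h1.ext _ n.2)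
    (ov_of_res (χ := ⟨_, h2.irr⟩) fun n => h2.ext _ n.2)
  exact ⟨l, a1, congrFun (congrArg Subtype.val a2)⟩

theorem FE.congr (h : Can p M b Q θ) (hQ : Nat.card Q = p) (h1 : Ext Q θ (In Q θ) η) (h2 : Ext Q θ (In Q θ) η')
    (hα : α ∈ LA Q θ) (h3 : FE Q θ η α) : FE Q θ η' α := fun x hx => by
  obtain ⟨l, a1, a2⟩ := ext_tw h hQ h1 h2
  rw [a2 ⟨x, hx⟩, ← lin_LA hQ hα a1, ← h3 x hx]
  exact a2 (resI hα ⟨x, hx⟩)

omit hp in
theorem lin_uniq (h : Can p M b Q θ) (h1 : Ext Q θ (In Q θ) η) {l m : In Q θ →* ℂˣ}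
    (hl : ∀ x ∈ (Ce Q).subgroupOf (In Q θ), l x = 1) (hm : ∀ x ∈ (Ce Q).subgroupOf (In Q θ), m x = 1)
    (e : ∀ x : In Q θ, (l x : ℂ) * η x = m x * η x) : l = m := by
  have a1 : (Ce Q).subgroupOf (In Q θ) ≤ l.eqLocus m := fun x hx => (hl x hx).trans (hm x hx).symm
  have a2 := top_of_vanish (l.eqLocus m) h1.irr (irr_of_comp (Subgroup.inclusion a1)
    (Clifford.isCharacter_restrict _ (irr_isCharacter h1.irr))
    ((funext fun c : (Ce Q).subgroupOf (In Q θ) => (h1.ext _ c.2).symm) ▸ irr_C h))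
    fun g hg => (mul_eq_mul_right_iff.1 (e g)).resolve_left fun h2 => hg (Units.ext h2)
  exact MonoidHom.ext fun x => (a2 ▸ Subgroup.mem_top x : x ∈ l.eqLocus m)

/-- **the action on the extensions** -/
theorem exists_nu (h : Can p M b Q θ) (hQ : Nat.card Q = p) (h1 : Ext Q θ (In Q θ) η) :
    ∃ ν : LA Q θ →* ℂˣ, (∀ α, ν α = 1 ↔ FE Q θ η α.1) ∧ ∀ α, ν α ^ (Ce Q).relIndex (In Q θ) = 1 := by
  choose L a1 a2 using fun α : LA Q θ => ext_tw h hQ h1 (ext_LA h1 α.2)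
  obtain ⟨_, hc⟩ := cyc_Ce hQ (In_le_normalizer (D := Q) (θ := θ))
  obtain ⟨t, ht⟩ := gen (QuotientGroup.mk' ((Ce Q).subgroupOf (In Q θ))) inferInstance
  rw [QuotientGroup.ker_mk'] at ht
  have a3 : ∀ α β, L (α * β) = L α * L β := fun α β => lin_uniq h h1 (a1 _)
    (fun x hx => by rw [MonoidHom.mul_apply, a1 _ x hx, a1 _ x hx, mul_one]) fun x => by
      rw [← a2, MonoidHom.mul_apply, Units.val_mul, mul_assoc, ← a2, ← lin_LA hQ β.2 (a1 α)]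
      exact a2 α (resI β.2 x)
  refine ⟨MonoidHom.mk' (fun α => L α t) fun α β => by rw [a3, MonoidHom.mul_apply], fun α => ⟨fun e x hx => ?_, fun e => ?_⟩,
    fun α => ?_⟩
  · obtain ⟨j, hj⟩ := ht ⟨x, hx⟩
    have a4 := a1 α _ hj
    rw [map_mul, map_inv, map_pow, show L α t = 1 from e, one_pow, inv_one, mul_one] at a4
    exact (a2 α ⟨x, hx⟩).trans (by rw [a4, Units.val_one, one_mul])
  · exact DFunLike.congr_fun (lin_uniq h h1 (a1 α) (m := 1) (fun _ _ => rfl) fun x =>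
      (a2 α x).symm.trans ((e x x.2).trans (one_mul _).symm)) t
  · exact (map_pow (L α) t _).symm.trans (a1 α _ (Subgroup.pow_index_mem _ t))

theorem idx_mul (h : Can p M b Q θ) (hQ : Nat.card Q = p) : ∃ n, (Ce Q).relIndex (In Q θ) * n + 1 = p := by
  obtain ⟨_, X, -, -, -, -, -, -, a⟩ := def1 h hQ
  exact ⟨_, a⟩

/-- the part of order prime to `p` -/
theorem exists_part (h : Can p M b Q θ) (hQ : Nat.card Q = p) (h1 : Ext Q θ (In Q θ) η) (hα : α ∈ LA Q θ) :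
    ∃ β ∈ LA Q θ, ¬ p ∣ orderOf β ∧ (FE Q θ η β ↔ FE Q θ η α) ∧ ∀ χ ∈ b, (χ : K → ℂ) ∘ β = χ ∘ α := by
  obtain ⟨x, hx⟩ := Blocks.PPart.exists_isPPart p (⟨α, hα⟩ : LA Q θ)
  obtain ⟨y, e, -, ⟨k, h4⟩, h5⟩ := hx
  obtain ⟨ν, a1, a2⟩ := exists_nu h hQ h1
  obtain ⟨n, a3⟩ := idx_mul h hQ
  have a4 : PElt p x.1 := ⟨k, (Subgroup.orderOf_coe x).trans h4⟩
  have a5 : ν x = 1 := eq_one_of (k := k) (by rw [← map_pow, ← h4, pow_orderOf_eq_one, map_one]) (a2 x) a3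
  refine ⟨y, y.2, by rwa [Subgroup.orderOf_coe], ?_, fun χ hχ => ?_⟩
  · rw [← a1, ← a1 ⟨α, hα⟩, ← e, map_mul, a5, one_mul]
  · rw [← show x.1 * y.1 = α from congrArg Subtype.val e, MulAut.coe_mul, ← Function.comp_assoc,
      Reg.da_p h (cent_of_p hQ x.2 a4) x.2.2 a4 hχ]

end Cfsg.Agent.BH.S1
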