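import Cfsg.Agent.BH.S1.Nu

/-!
# BH, box S1: the action of the automorphisms on a block of defect one (helper58)
-/

set_option autoImplicit false

namespace Cfsg.Agent.BH.S1

open Cfsg Cfsg.Agent Cfsg.Agent.Characters Cfsg.Agent.Blocks.Basic Cfsg.Agent.Blocks.Local
open Cfsg.Agent.TO Cfsg.Agent.TO.Cov

variable {K : Type} [Group K] [Finite K] {Q : Subgroup K} {θ η : K → ℂ} {α β : MulAut K}
  {p : ℕ} [hp : Fact p.Prime] {M : Ideal AlgInt} {b : Set (IrrCharacter K)}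

/-- the group `K ⋊ ⟨α⟩` -/
structure Fr (p : ℕ) (M : Ideal AlgInt) (b : Set (IrrCharacter K)) (Q : Subgroup K) (θ : K → ℂ) (α : MulAut K)
    {H : Type} [Group H] (N : Subgroup H) [N.Normal] (e : K ≃* N) (a : H) (D : Subgroup H) (θ' : H → ℂ) : Prop where
  cy : CY p M N (H649.blkMap e b) D θ'
  mem : a ∈ In D θ'
  act : ∀ g, MulAut.conjNormal a (e g) = e (α g)
  gen : ∀ x : H, ∃ (g : K) (k : ℕ), x = e g * a ^ k
  th : ∀ g, θ' (e g) = θ g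
  def' : ∀ g, e g ∈ D.subgroupOf N ↔ g ∈ Q

omit hp in
theorem exists_Fr (h : Can p M b Q θ) (hQ : Nat.card Q = p) (hα : α ∈ LA Q θ) (ho : ¬ p ∣ orderOf α) :
    ∃ (H : Type) (_ : Group H) (_ : Finite H) (N : Subgroup H) (_ : N.Normal) (e : K ≃* N) (a : H) (D : Subgroup H)
      (θ' : H → ℂ), Fr p M b Q θ α N e a D θ' := by
  obtain ⟨H, _, _, N, _, e, a, ha, hx, hi, hc⟩ := exists_frame α
  have e2 : ((Q.map e.toMonoidHom).map N.subtype).subgroupOf N = Q.map e.toMonoidHom :=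
    Subgroup.comap_map_eq_self_of_injective N.subtype_injective _
  have e0 : ∀ x, x ∉ N → extendByZero N (fun n => θ (e.symm n)) x = 0 := fun x hx =>
    Core.extendByZero_of_notMem _ _ hx
  have e1 : ∀ g, extendByZero N (fun n => θ (e.symm n)) (e g) = θ g := fun g =>
    (Core.extendByZero_of_mem N _ (e g).2).trans (congrArg θ (e.symm_apply_apply g))
  have e3 : ∀ g, e g ∈ ((Q.map e.toMonoidHom).map N.subtype).subgroupOf N ↔ g ∈ Q := fun g => by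
    rw [e2]
    exact Subgroup.mem_map_iff_mem e.injective
  have e4 : ∀ g, MulAut.conjNormal a (e g) = e (α g) := fun g => Subtype.ext (ha g)
  have hD := Subgroup.map_subtype_le (Q.map e.toMonoidHom)
  have e5 := (Reg.mem_In_iff hD e0 a).2 ((LA_iso e e3 e1 e4).2 hα)
  refine ⟨H, inferInstance, inferInstance, N, inferInstance, e, a, _, _, ⟨hc, hi ▸ ho, hD, ?_, e0, ?_,
    top_le_iff.1 fun x _ => ?_⟩, e5, e4, hx, e1, e3⟩
  · rw [Subgroup.card_subtype, Subgroup.card_map_of_injective e.injective, hQ]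
  · rw [e2, ext_coe]
    exact can_map e h
  · obtain ⟨g, k, rfl⟩ := hx x
    exact Subgroup.mul_mem_sup (e g).2 (pow_mem e5 k)

namespace Fr

variable {H : Type} [Group H] [Finite H] {N : Subgroup H} [N.Normal] {e : K ≃* N} {a : H} {D : Subgroup H} {θ' : H → ℂ}

omit [Finite K] hp [Finite H] in
theorem mem_I (F : Fr p M b Q θ α N e a D θ') (g : K) : (e g : H) ∈ In D θ' ↔ g ∈ In Q θ :=
  (Reg.mem_In_sub F.cy.le F.cy.zero _).trans (LA_iso (α := MulAut.conj g) (α' := MulAut.conj (e g))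
    (θ' := fun n => θ' n) e F.def' F.th fun x => by simp only [MulAut.conj_apply, map_mul, map_inv])

omit [Finite K] hp [Finite H] in
theorem mem_C (F : Fr p M b Q θ α N e a D θ') (g : K) : (e g : H) ∈ Ce D ↔ g ∈ Ce Q := by
  rw [← mem_Ce_sub F.cy.le, mem_Ce, mem_Ce, e.surjective.forall]
  simp only [F.def', ← map_mul, e.injective.eq_iff]

omit [Finite K] hp [Finite H] in
theorem con (F : Fr p M b Q θ α N e a D θ') (χ : IrrCharacter K) :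
    Con p (D.subgroupOf N) (fun n => θ' n) (H649.irrMap e χ) ↔ Con p Q θ χ := by
  rw [← Con.iso e F.def', show (fun n : N => θ' n) ∘ e = θ from funext F.th,
    show (H649.irrMap e χ : N → ℂ) ∘ e = χ from funext (H649.irrMap_apply' e χ)]

omit [Finite K] hp [Finite H] in
theorem inv (F : Fr p M b Q θ α N e a D θ') (χ : IrrCharacter K) :
    (∀ g : H, (H649.irrMap e χ : N → ℂ) ∘ MulAut.conjNormal g = H649.irrMap e χ) ↔ (χ : K → ℂ) ∘ α = χ := by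
  refine ⟨fun h => funext fun g => ?_, fun h x => funext ?_⟩
  · rw [Function.comp_apply, ← H649.irrMap_apply' e, ← F.act, ← H649.irrMap_apply' e]
    exact congrFun (h a) _
  · obtain ⟨g, k, rfl⟩ := F.gen x
    refine (show MulAut.conjNormal ((e g : H) * a ^ k) ∈ LA ⊤ (H649.irrMap e χ : N → ℂ) from ?_).2
    rw [map_mul, map_pow]
    refine mul_mem ⟨fun _ => Iff.rfl, fun n => irr_conj (H649.irrMap e χ).2 n (e g)⟩
      (pow_mem (mem_LA.2 ⟨fun _ => Iff.rfl, e.surjective.forall.2 fun y => ?_⟩) k)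
    rw [F.act, H649.irrMap_apply', H649.irrMap_apply']
    exact congrFun h y

/-- the inertia groups -/
noncomputable def iso (F : Fr p M b Q θ α N e a D θ') : In Q θ ≃* ↥(In D θ' ⊓ N) :=
  MulEquiv.ofBijective (((N.subtype.comp e.toMonoidHom).comp (In Q θ).subtype).codRestrict (In D θ' ⊓ N)
    fun x => Subgroup.mem_inf.2 ⟨(F.mem_I x).2 x.2, (e x).2⟩)
    ⟨fun _ _ h => Subtype.ext (e.injective (Subtype.ext (congrArg (fun y : ↥(In D θ' ⊓ N) => (y : H)) h))), fun y =>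
      ⟨⟨e.symm ⟨y, y.2.2⟩, (F.mem_I _).1 (by rw [e.apply_symm_apply]; exact y.2.1)⟩,
        Subtype.ext (congrArg (fun y : N => (y : H)) (e.apply_symm_apply ⟨y, y.2.2⟩))⟩⟩

omit [Finite K] in
theorem fixA (F : Fr p M b Q θ α N e a D θ') (hα : α ∈ LA Q θ) (h1 : Ext Q θ (In Q θ) η) (h2 : FE Q θ η α)
    {χ : IrrCharacter K} (hχ : χ ∈ b) (hc : Con p Q θ χ) : (χ : K → ℂ) ∘ α = χ := by
  have hex : ∀ g : K, extendByZero N (fun n => η (e.symm n)) (e g) = η g := fun g =>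
    (Core.extendByZero_of_mem N _ (e g).2).trans (congrArg η (e.symm_apply_apply g))
  have hak : ∀ (k : ℕ) (g : K), a ^ k * e g * (a ^ k)⁻¹ = e ((α ^ k) g) := by
    intro k
    induction k with
    | zero => intro g; rw [pow_zero, pow_zero, one_mul, inv_one, mul_one, MulAut.one_apply]
    | succ k ih =>
      intro g
      rw [pow_succ α, MulAut.mul_apply, ← ih, ← F.act, MulAut.conjNormal_apply, pow_succ]
      group
  refine (F.inv χ).1 (F.cy.fixA (η := extendByZero N fun n => η (e.symm n)) ?_ (fun c h4 h5 => ?_)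
    (fun t h4 x h5 h6 => ?_) (H649.irrMap_mem_blkMap.2 hχ) ((F.con χ).2 hc))
  · rw [show (fun x : ↥(In D θ' ⊓ N) => extendByZero N (fun n => η (e.symm n)) x) =
      (fun x : In Q θ => η x) ∘ F.iso.symm.toMonoidHom from funext (F.iso.surjective.forall.2 fun y =>
        (hex y).trans (congrArg (fun x : In Q θ => η x) (F.iso.symm_apply_apply y).symm))]
    exact Core.isIrr_comp _ F.iso.symm.surjective h1.irr
  · obtain ⟨g, hg⟩ := e.surjective ⟨c, h5⟩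
    obtain rfl : (e g : H) = c := congrArg Subtype.val hg
    rw [hex, F.th, h1.ext g ((F.mem_C g).1 h4)]
  · obtain ⟨g, k, rfl⟩ := F.gen t
    obtain ⟨y, hy⟩ := e.surjective ⟨x, h6⟩
    obtain rfl : (e y : H) = x := congrArg Subtype.val hy
    have h7 := (F.mem_I g).1 ((Subgroup.mul_mem_cancel_right _ (pow_mem F.mem k)).1 h4)
    have h8 := (F.mem_I y).1 h5
    rw [show (e g : H) * a ^ k * e y * ((e g : H) * a ^ k)⁻¹ = e (g * (α ^ k) y * g⁻¹) by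
      rw [map_mul, map_mul, map_inv, Subgroup.coe_mul, Subgroup.coe_mul, Subgroup.coe_inv, ← hak]; group,
      hex, hex, ← h2.pow hα k y h8]
    exact irr_conj h1.irr ⟨_, Cov.LA_In (pow_mem hα k) h8⟩ ⟨g, h7⟩

theorem fixB (F : Fr p M b Q θ α N e a D θ') (h : Can p M b Q θ) (hQ : Nat.card Q = p) (hα : α ∈ LA Q θ)
    (h1 : Ext Q θ (In Q θ) η) (h2 : ¬ FE Q θ η α) {χ χ' : IrrCharacter K} (hχ : χ ∈ b) (hc : Con p Q θ χ)
    (hi : (χ : K → ℂ) ∘ α = χ) (hχ' : χ' ∈ b) (h3 : Con p Q θ χ' → (χ' : K → ℂ) ∘ α = χ') : χ' = χ := by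
  have a1 := F.cy.fixB (fun φ hφ => ?_) (H649.irrMap_mem_blkMap.2 hχ) ((F.con χ).2 hc) ((F.inv χ).2 hi)
    (H649.irrMap_mem_blkMap.2 hχ') fun h4 => (F.inv χ').2 (h3 ((F.con χ').1 h4))
  · exact Subtype.ext (funext fun g => by rw [← H649.irrMap_apply' e, a1, H649.irrMap_apply'])
  by_contra a2
  push Not at a2
  obtain ⟨ξ, b1, b2, b3⟩ := F.cy.exists_ext hφ a2
  refine h2 (FE.congr (η := fun g => ξ (e g)) h hQ ⟨h1.le, Core.isIrr_comp F.iso.toMonoidHom F.iso.surjective b1,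
    fun c h4 => (b2 _ ((F.mem_C c).2 h4) (e c).2).trans (F.th c)⟩ h1 hα fun x hx => ?_)
  exact (congrArg (fun n : N => ξ n) (F.act x)).symm.trans (b3 a F.mem _ ((F.mem_I x).2 hx))

end Fr

theorem fixA (h : Can p M b Q θ) (hQ : Nat.card Q = p) (h1 : Ext Q θ (In Q θ) η) (hα : α ∈ LA Q θ) (h2 : FE Q θ η α)
    {χ : IrrCharacter K} (hχ : χ ∈ b) (hc : Con p Q θ χ) : (χ : K → ℂ) ∘ α = χ := by
  obtain ⟨β, a1, a2, a3, a4⟩ := exists_part h hQ h1 hα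
  obtain ⟨H, _, _, N, _, e, a, D, θ', F⟩ := exists_Fr h hQ a1 a2
  exact (a4 χ hχ).symm.trans (F.fixA a1 h1 (a3.2 h2) hχ hc)

theorem fixB (h : Can p M b Q θ) (hQ : Nat.card Q = p) (h1 : Ext Q θ (In Q θ) η) (hα : α ∈ LA Q θ)
    (h2 : ¬ FE Q θ η α) {χ χ' : IrrCharacter K} (hχ : χ ∈ b) (hc : Con p Q θ χ) (hi : (χ : K → ℂ) ∘ α = χ)
    (hχ' : χ' ∈ b) (h3 : Con p Q θ χ' → (χ' : K → ℂ) ∘ α = χ') : χ' = χ := by
  obtain ⟨β, a1, a2, a3, a4⟩ := exists_part h hQ h1 hα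
  obtain ⟨H, _, _, N, _, e, a, D, θ', F⟩ := exists_Fr h hQ a1 a2
  exact F.fixB h hQ a1 h1 (mt a3.1 h2) hχ hc ((a4 χ hχ).trans hi) hχ' fun h4 => (a4 χ' hχ').trans (h3 h4)

omit [Finite K] in
theorem NL.inj (hQ : Nat.card Q = p) {ν : K → ℂ} (h : NL Q ν) {u v : K} (hu : u ∈ Q) (hv : v ∈ Q) (e : ν u = ν v) :
    u = v := by
  have : Fact (Nat.card Q).Prime := hQ ▸ hp
  have h1 := (h.hom.ker.eq_bot_or_eq_top_of_prime_card).resolve_right fun h1 =>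
    h.hom_ne (MonoidHom.ext fun x => (h1 ▸ Subgroup.mem_top x : x ∈ h.hom.ker))
  exact congrArg Subtype.val ((h.hom.ker_eq_bot_iff.1 h1) (a₁ := ⟨u, hu⟩) (a₂ := ⟨v, hv⟩) (Units.ext e))

theorem fixX (h : Can p M b Q θ) (hQ : Nat.card Q = p) (hα : α ∈ LA Q θ) {χ : IrrCharacter K} (hχ : χ ∈ b)
    (hc : ¬ Con p Q θ χ) : (χ : K → ℂ) ∘ α = χ ↔ Inr Q θ α := by
  obtain ⟨s, a1, -, ν, a2, a3⟩ := W_val h hQ hχ
  have a4 : W p Q θ χ ν ≠ 0 := a3 ▸ ne_zero_of a1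
  have a5 := a2.iso α hα.1
  have a6 : W p Q θ ((χ : K → ℂ) ∘ α) (ν ∘ α) ≠ 0 := by rwa [W_LA hα]
  refine ⟨fun e => ?_, fun ⟨t, b1, b2⟩ => ?_⟩
  · obtain ⟨t, b1, b2⟩ := W_orb h hQ hχ hc a2 a5 a4 (e ▸ a6)
    exact ⟨t, b1, fun u hu => a2.inj hQ ((hα.1 u).2 hu) (((mem_In.1 b1).1 u).2 hu) (b2 u hu)⟩
  · obtain ⟨χ', c1, c2⟩ := (h.le_Stab hα _).2 (mem_Fn.2 hχ)
    refine c2.symm.trans (congrArg Subtype.val (W_uniq h hQ c1 hχ (c2 ▸ mt (Con.LA hα).1 hc) hc a5 (c2 ▸ a6) ?_))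
    rwa [W_congr (ν := ν ∘ α) (ν' := ν ∘ MulAut.conj t) fun u hu => congrArg ν (b2 u hu), ← cj_fix b1,
      W_cj (irr_isClassFunction χ.2) (mem_In.1 b1).1]

/-- a fixed point -/
theorem exists_fix (h : Can p M b Q θ) (hQ : Nat.card Q = p) (h1 : Ext Q θ (In Q θ) η) (hc : ∀ χ ∈ b, Con p Q θ χ)
    (he : (Ce Q).relIndex (In Q θ) + 1 = p) (hb : b.ncard = p) :
    ∃ χ ∈ b, ∀ α ∈ LA Q θ, (χ : K → ℂ) ∘ α = χ := by
  obtain ⟨ν, a1, a2⟩ := exists_nu h hQ h1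
  by_cases a3 : ∀ α, ν α = 1
  · obtain ⟨χ, hχ⟩ := Set.nonempty_of_ncard_ne_zero (hb.trans_ne hp.out.ne_zero)
    exact ⟨χ, hχ, fun α hα => fixA h hQ h1 hα ((a1 ⟨α, hα⟩).1 (a3 _)) hχ (hc χ hχ)⟩
  obtain ⟨γ, a4⟩ := not_forall.1 a3
  obtain ⟨l, b1, n, b2⟩ := Nat.exists_prime_and_dvd (mt orderOf_eq_one_iff.1 a4)
  have b3 : 0 < orderOf (ν γ) := ν.isOfFinOrder (isOfFinOrder_of_finite γ) |>.orderOf_pos
  have b4 : ν (γ ^ n) ≠ 1 := fun e => by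
    rw [map_pow, ← orderOf_dvd_iff_pow_eq_one, b2] at e
    have b5 : 0 < n := Nat.pos_of_mul_pos_left (b2 ▸ b3)
    have b6 := Nat.le_of_dvd b5 e
    have b7 := b1.two_le
    nlinarith
  have b5 : ν ((γ ^ n) ^ l) = 1 := by rw [← pow_mul, mul_comm, ← b2, map_pow, pow_orderOf_eq_one]
  generalize γ ^ n = β at b4 b5
  have : Fact l.Prime := ⟨b1⟩
  have := (finite_Fn b).fintype
  let σ : Equiv.Perm (Fn b) := Equiv.Perm.subtypePerm (Equiv.arrowCongr β.1.toEquiv.symm (Equiv.refl ℂ))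
    fun f => h.le_Stab β.2 f
  have c1 : ∀ (k : ℕ) (f : Fn b), ((σ ^ k) f : K → ℂ) = f.1 ∘ (β ^ k).1 := fun k => by
    induction k with
    | zero => exact fun _ => rfl
    | succ k ih => exact fun f => by rw [pow_succ, Equiv.Perm.mul_apply, ih, pow_succ']; rfl
  obtain ⟨⟨_, χ, c2, rfl⟩, c3⟩ := Equiv.Perm.exists_fixed_point_of_prime (p := l) (n := 1) (σ := σ) (fun c2 => by
    rw [← Nat.card_eq_fintype_card, Nat.card_coe_set_eq, Fn, Set.ncard_image_of_injective _ Subtype.val_injective,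
      hb, ← he] at c2
    exact b1.one_lt.ne' (Nat.dvd_one.1 ((Nat.dvd_add_right ((Dvd.intro _ b2.symm).trans
      (orderOf_dvd_of_pow_eq_one (a2 γ)))).1 c2))) (Equiv.ext fun ⟨_, χ, c2, rfl⟩ => Subtype.ext (by
    rw [pow_one, c1]
    exact fixA h hQ h1 (β ^ l).2 ((a1 _).1 b5) c2 (hc χ c2)))
  have c4 : (χ : K → ℂ) ∘ β.1 = χ := congrArg Subtype.val c3
  refine ⟨χ, c2, fun α hα => ?_⟩
  obtain ⟨χ', d1, d2⟩ := (h.le_Stab hα _).2 (mem_Fn.2 c2)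
  refine d2.symm.trans (congrArg Subtype.val (fixB h hQ h1 β.2 (mt (a1 β).2 b4) c2 (hc χ c2) c4 d1 fun _ => ?_))
  have d3 := fixA h hQ h1 (⟨α, hα⟩ * β * (⟨α, hα⟩ : LA Q θ)⁻¹ * β⁻¹).2 ((a1 _).1 (by
    rw [map_mul, map_mul, map_mul, map_inv, map_inv, mul_inv_cancel_comm, mul_inv_cancel])) c2 (hc χ c2)
  rw [d2]
  funext x
  have d4 := (congrFun d3 (β.1 (α x))).trans (congrFun c4 (α x))
  simpa using d4

/-- **the action on the block** -/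
theorem str (h : Can p M b Q θ) (hQ : Nat.card Q = p) (h1 : Ext Q θ (In Q θ) η) : ∃ A X : Set (K → ℂ),
    A ∪ X = Fn b ∧ Disjoint A X ∧ A.ncard = (Ce Q).relIndex (In Q θ) ∧ (Ce Q).relIndex (In Q θ) * X.ncard + 1 = p ∧
    ∀ α ∈ LA Q θ, (∀ f ∈ A, f ∘ α ∈ A ∧ (f ∘ α = f ↔ FE Q θ η α)) ∧ ∀ f ∈ X, f ∘ α ∈ X ∧ (f ∘ α = f ↔ Inr Q θ α) := by
  have hn : ∀ c : Set (IrrCharacter K), (Fn c).ncard = c.ncard := fun c =>
    Set.ncard_image_of_injective _ Subtype.val_injective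
  rcases W_cnt h hQ with ⟨a1, a2, a3⟩ | ⟨⟨χ0, a0, a1⟩, a2, a3⟩
  · obtain ⟨χ0, b1, b2⟩ := exists_fix h hQ h1 a1 a2 a3
    refine ⟨Fn b \ {χ0.1}, {χ0.1}, Set.sdiff_union_of_subset (Set.singleton_subset_iff.2 (mem_Fn.2 b1)),
      Set.disjoint_sdiff_left, ?_, by rw [Set.ncard_singleton, mul_one, a2], fun α hα => ⟨?_, ?_⟩⟩
    · rw [Set.ncard_sdiff_singleton_of_mem (mem_Fn.2 b1), hn, a3, ← a2, Nat.add_sub_cancel]
    · rintro _ ⟨⟨χ, c1, rfl⟩, c2⟩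
      refine ⟨⟨(h.le_Stab hα _).2 (mem_Fn.2 c1), fun c3 => c2 ?_⟩, fun c3 => by_contra fun c4 =>
        c2 (congrArg Subtype.val (fixB h hQ h1 hα c4 b1 (a1 _ b1) (b2 α hα) c1 fun _ => c3)),
        fun c3 => fixA h hQ h1 hα c3 c1 (a1 _ c1)⟩
      rw [Set.mem_singleton_iff, ← b2 α hα] at c3
      exact α.surjective.injective_comp_right c3
    · rintro _ rfl
      exact ⟨b2 α hα, iff_of_true (b2 α hα) (inr_of hQ a2 hα)⟩
  · refine ⟨Fn {χ ∈ b | Con p Q θ χ}, Fn {χ ∈ b | ¬ Con p Q θ χ}, ?_, Set.disjoint_left.2 ?_, (hn _).trans a2,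
      by rw [hn, a3], fun α hα => ⟨?_, ?_⟩⟩
    · rw [Fn, Fn, ← Set.image_union]
      exact congrArg Fn (Set.ext fun χ => ⟨fun c => c.elim And.left And.left, fun c => (em _).imp (And.intro c) (And.intro c)⟩)
    · rintro _ ⟨χ, c1, rfl⟩ c2
      exact (mem_Fn.1 c2).2 c1.2
    · rintro _ ⟨χ, c1, rfl⟩
      obtain ⟨χ', d1, d2⟩ := (h.le_Stab hα _).2 (mem_Fn.2 c1.1)
      exact ⟨⟨χ', ⟨d1, d2 ▸ (Con.LA hα).2 c1.2⟩, d2⟩, fun c3 => by_contra fun c4 =>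
        a1 (fixB h hQ h1 hα c4 c1.1 c1.2 c3 a0 (fun c5 => absurd c5 a1) ▸ c1.2),
        fun c3 => fixA h hQ h1 hα c3 c1.1 c1.2⟩
    · rintro _ ⟨χ, c1, rfl⟩
      obtain ⟨χ', d1, d2⟩ := (h.le_Stab hα _).2 (mem_Fn.2 c1.1)
      exact ⟨⟨χ', ⟨d1, d2 ▸ mt (Con.LA hα).1 c1.2⟩, d2⟩, fixX h hQ hα c1.1 c1.2⟩

end Cfsg.Agent.BH.S1
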